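import Cfsg.Agent.SL3Geo70.Model
import Cfsg.Agent.Aschbacher.Prime
import Cfsg.Agent.Aschbacher.Heisenberg
import Cfsg.Agent.PF14.Compose

/-!
A group of odd order containing a Singer torus normalises the cubic field (helper70).
-/

set_option autoImplicit false
set_option linter.unusedSectionVars false
set_option linter.style.haveILetI false

namespace Cfsg.Agent.SL3Geo70

open Matrix Cfsg.Agent.MaxSub

variable {F E : Type*} [Field F] [Fintype F] [Field E] [Algebra F E]
variable (e : E ≃ₗ[F] (Fin 3 → F)) [Fintype (Pt F E)]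

/-- Multiplications as a homomorphism of algebras. -/
noncomputable def muA : E →ₐ[F] Matrix (Fin 3) (Fin 3) F where
  toFun := mu e
  map_one' := mu_one e
  map_mul' := mu_mul e
  map_zero' := by simpa using mu_algebraMap e (0 : F)
  map_add' := mu_add e
  commutes' c := by rw [mu_algebraMap, Algebra.algebraMap_eq_smul_one]

theorem muA_apply (x : E) : muA e x = mu e x := rfl

theorem finrank_range_muA : Module.finrank F (muA e).range = 3 := by
  rw [← (AlgEquiv.ofInjective (muA e) (mu_injective e)).toLinearEquiv.finrank_eq, finrank_E e]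

theorem prime_factor_ge_five {q : ℕ} (hq : 2 ≤ q) :
    ∃ r, r.Prime ∧ 5 ≤ r ∧ r ∣ q ^ 2 + q + 1 := by
  set N := q ^ 2 + q + 1 with hN
  by_contra hcon
  push Not at hcon
  have hodd : N % 2 = 1 := by
    rcases Nat.even_or_odd q with ⟨k, hk⟩ | ⟨k, hk⟩
    · rw [hN, show q ^ 2 + q + 1 = 2 * (2 * k ^ 2 + k) + 1 by rw [hk]; ring]; omega
    · rw [hN, show q ^ 2 + q + 1 = 2 * (2 * k ^ 2 + 3 * k + 1) + 1 by rw [hk]; ring]; omega
  have h9 : ¬ 9 ∣ N := by
    intro h
    obtain ⟨k, a, ha, rfl⟩ : ∃ k a, a < 9 ∧ q = 9 * k + a :=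
      ⟨q / 9, q % 9, Nat.mod_lt _ (by norm_num), (Nat.div_add_mod q 9).symm⟩
    have h' : (a ^ 2 + a + 1) % 9 = 0 := by
      have : N = 9 * (9 * k ^ 2 + 2 * k * a + k) + (a ^ 2 + a + 1) := by rw [hN]; ring
      omega
    interval_cases a <;> norm_num at h'
  have hN7 : 7 ≤ N := by rw [hN]; nlinarith
  have h3 : ∀ r, r.Prime → r ∣ N → r = 3 := by
    intro r hr hrN
    have h5 : r < 5 := by
      by_contra h
      exact hcon r hr (by omega) hrN
    have h2 := hr.two_le
    interval_cases r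
    · omega
    · rfl
    · norm_num at hr
  have h := Nat.eq_prime_pow_of_unique_prime_dvd (p := 3) (n := N) (by omega) fun {d} hd hdN => h3 d hd hdN
  rcases Nat.lt_or_ge N.primeFactorsList.length 2 with hl | hl
  · interval_cases hlen : N.primeFactorsList.length <;> omega
  · exact h9 (h ▸ (pow_dvd_pow 3 hl : 3 ^ 2 ∣ _))

/-- A torus element of large prime order. -/
theorem exists_torus_element :
    ∃ (r : ℕ) (x : Eˣ), r.Prime ∧ 5 ≤ r ∧ x ∈ torus e ∧ x ^ r = 1 ∧
      ∀ c : F, algebraMap F E c ≠ (x : E) := by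
  classical
  haveI := finite_E e
  haveI := Fintype.ofFinite E
  obtain ⟨r, hr, hr5, hrN⟩ := prime_factor_ge_five (Fintype.one_lt_card (α := F))
  haveI := Fact.mk hr
  have hq := Fintype.one_lt_card (α := F)
  set q := Fintype.card F with hqdef
  obtain ⟨k, hk⟩ : ∃ k, q = k + 1 := ⟨q - 1, by omega⟩
  have hnot : ¬ r ∣ q - 1 := fun h => by
    rw [hk, Nat.add_sub_cancel] at h
    rw [hk, show (k + 1) ^ 2 + (k + 1) + 1 = k * (k + 3) + 3 by ring] at hrN
    have := Nat.le_of_dvd (by norm_num) ((Nat.dvd_add_right (h.mul_right _)).mp hrN)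
    omega
  have hdvd : r ∣ Nat.card Eˣ := by
    rw [Nat.card_units, natCard_E e, ← hqdef]
    have h3 : (k + 1) ^ 3 = k * ((k + 1) ^ 2 + (k + 1) + 1) + 1 := by ring
    rw [hk, h3, Nat.add_sub_cancel]
    exact Dvd.dvd.mul_left (hk ▸ hrN) k
  obtain ⟨x, hx⟩ := exists_prime_orderOf_dvd_card' r hdvd
  have hxr : x ^ r = 1 := hx ▸ pow_orderOf_eq_one x
  have key : ∀ c : Fˣ, c ^ r = 1 → c = 1 := fun c hc => by
    rcases (Nat.dvd_prime hr).mp (orderOf_dvd_of_pow_eq_one hc) with h | h
    · exact orderOf_eq_one_iff.mp h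
    · exfalso
      refine hnot (h ▸ ?_)
      have := orderOf_dvd_natCard c
      rwa [Nat.card_units, Nat.card_eq_fintype_card] at this
  refine ⟨r, x, hr, hr5, ?_, hxr, fun c hc => ?_⟩
  · show Matrix.GeneralLinearGroup.det (muU e x) = 1
    exact key _ (by rw [← map_pow, ← map_pow, hxr, map_one, map_one])
  · have hc0 : c ≠ 0 := fun h => x.ne_zero (by rw [← hc, h, map_zero])
    have hcr : c ^ r = 1 := (algebraMap F E).injective (by
      rw [map_pow, hc, map_one, ← Units.val_pow_eq_pow_val, hxr, Units.val_one])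
    have := key (Units.mk0 c hc0) (Units.ext (by simpa using hcr))
    have hc1 : c = 1 := congrArg Units.val this
    rw [hc1, map_one] at hc
    exact hr.ne_one (hx.symm.trans (orderOf_eq_one_iff.mpr (Units.ext hc.symm)))

/-- The commutant of a generator. -/
theorem mem_range_of_commute {x : E} (hx : ∀ c : F, algebraMap F E c ≠ x)
    {A : Matrix (Fin 3) (Fin 3) F} (hA : A * mu e x = mu e x * A) : A ∈ (muA e).range := by
  have hall : ∀ y : E, A * mu e y = mu e y * A := by
    intro y
    have hy : y ∈ Algebra.adjoin F ({x} : Set E) := by rw [adjoin_eq_top e hx]; trivial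
    induction hy using Algebra.adjoin_induction with
    | mem z hz => rw [Set.mem_singleton_iff.mp hz, hA]
    | algebraMap c => rw [mu_algebraMap, Matrix.mul_smul, Matrix.smul_mul, mul_one, one_mul]
    | add a b _ _ ha hb => rw [mu_add, mul_add, add_mul, ha, hb]
    | mul a b _ _ ha hb => rw [mu_mul, ← mul_assoc, ha, mul_assoc, hb, ← mul_assoc]
  refine ⟨e.symm (A *ᵥ e 1), ext_e e fun y => ?_⟩
  show mu e _ *ᵥ e y = A *ᵥ e y
  conv_rhs => rw [← mul_one y, ← mu_mulVec, mulVec_mulVec, hall, ← mulVec_mulVec, mu_mulVec']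
  rw [mu_mulVec, mul_comm]

variable {M : Subgroup (GL (Fin 3) F)}

theorem irr_of_torus (hT : ∀ t ∈ torus e, muU e t ∈ M) : Aschbacher.Irr M := by
  obtain ⟨r, x, -, -, hxT, -, hx⟩ := exists_torus_element e
  intro W hW
  refine or_iff_not_imp_left.mpr fun hne => eq_top_iff.mpr fun v _ => ?_
  obtain ⟨w, hw, hw0⟩ := (Submodule.ne_bot_iff W).mp hne
  let S : Subalgebra F E :=
    { carrier := {δ | ∀ z ∈ W, mu e δ *ᵥ z ∈ W}
      mul_mem' := fun {a b} ha hb z hz => by
        rw [mu_mul, ← mulVec_mulVec]; exact ha _ (hb z hz)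
      add_mem' := fun {a b} ha hb z hz => by
        rw [mu_add, add_mulVec]; exact W.add_mem (ha z hz) (hb z hz)
      algebraMap_mem' := fun c z hz => by
        rw [mu_algebraMap, smul_mulVec, one_mulVec]; exact W.smul_mem c hz }
  have hS : (⊤ : Subalgebra F E) ≤ S := (adjoin_eq_top e hx).ge.trans
    (Algebra.adjoin_le (Set.singleton_subset_iff.mpr (show (x : E) ∈ S from fun z hz =>
      hW _ (hT x hxT) z hz)))
  have h := hS (Algebra.mem_top (x := e.symm v * (e.symm w)⁻¹)) w hw
  rwa [mu_mulVec', mul_assoc, inv_mul_cancel₀ (by simpa using hw0), mul_one,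
    e.apply_symm_apply] at h

/-- A field subalgebra is a field. -/
theorem isField_of_fieldSubalgebra {n : ℕ} {K : Subalgebra F (Matrix (Fin 3) (Fin 3) F)}
    (hK : Geo.IsFieldSubalgebra n K) : IsField K where
  exists_pair_ne := ⟨0, 1, zero_ne_one⟩
  mul_comm a b := Subtype.ext (hK.comm _ a.2 _ b.2)
  mul_inv_cancel {a} ha := by
    obtain ⟨b, hb, hab⟩ := hK.inv _ a.2 fun h => ha (Subtype.ext h)
    exact ⟨⟨b, hb⟩, Subtype.ext hab⟩

/-- Distinct conjugate elements of a field of matrices are roots of one cubic. -/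
theorem le_three_of_charpoly {L : Type*} [CommRing L] [IsDomain L] [Algebra F L] {P : Polynomial F}
    (φ : L →ₐ[F] Matrix (Fin 3) (Fin 3) F) (hφ : Function.Injective φ) (x : ℕ → L) {r : ℕ}
    (hchar : ∀ i, (φ (x i)).charpoly = P) (hinj : Set.InjOn x (Set.Iio r)) : r ≤ 3 := by
  classical
  set Q := P.map (algebraMap F L) with hQ
  have hP : P.Monic := hchar 0 ▸ Matrix.charpoly_monic _
  have hQ0 : Q ≠ 0 := (hP.map _).ne_zero
  have hroot : ∀ i, x i ∈ Q.roots.toFinset := fun i => by
    rw [Multiset.mem_toFinset, Polynomial.mem_roots hQ0, Polynomial.IsRoot, hQ, Polynomial.eval_map]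
    show Polynomial.aeval (x i) P = 0
    refine hφ ?_
    show φ (Polynomial.aeval (x i) P) = φ 0
    rw [← Polynomial.aeval_algHom_apply, map_zero]
    rw [← hchar i]
    exact Matrix.aeval_self_charpoly _
  refine (Finset.card_range r).ge.trans
    ((Finset.card_le_card_of_injOn x (fun i _ => hroot i) ?_).trans
      ((Multiset.toFinset_card_le _).trans ((Polynomial.card_roots' Q).trans ?_)))
  · rw [Finset.coe_range]; exact hinj
  · rw [hQ, hP.natDegree_map, ← hchar 0, Matrix.charpoly_natDegree_eq_dim, Fintype.card_fin]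

/-- An element of large prime order normalising a cubic field subalgebra centralises it. -/
theorem commute_of_normalizes {K : Subalgebra F (Matrix (Fin 3) (Fin 3) F)}
    (hK : Geo.IsFieldSubalgebra 3 K) {g : GL (Fin 3) F} (hg : g ∈ Geo.subalgebraNormalizer K)
    {r : ℕ} (hr : r.Prime) (hr5 : 5 ≤ r) (hgr : g ^ r = 1) {k : Matrix (Fin 3) (Fin 3) F}
    (hk : k ∈ K) :
    (g : Matrix (Fin 3) (Fin 3) F) * k = k * (g : Matrix (Fin 3) (Fin 3) F) := by
  classical
  letI : CommRing K := { (inferInstance : Ring K) with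
    mul_comm := (isField_of_fieldSubalgebra hK).mul_comm }
  haveI : IsDomain K := (isField_of_fieldSubalgebra hK).isDomain
  let f : Matrix (Fin 3) (Fin 3) F → Matrix (Fin 3) (Fin 3) F :=
    fun a => (g : Matrix (Fin 3) (Fin 3) F) * a * ((g⁻¹ : GL (Fin 3) F) : Matrix (Fin 3) (Fin 3) F)
  have hit : ∀ i : ℕ, f^[i] k = ((g ^ i : GL (Fin 3) F) : Matrix (Fin 3) (Fin 3) F) * k *
      (((g ^ i)⁻¹ : GL (Fin 3) F) : Matrix (Fin 3) (Fin 3) F) := by
    intro i
    induction i with
    | zero => simp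
    | succ i ih =>
      rw [Function.iterate_succ_apply', ih, pow_succ', _root_.mul_inv_rev, Units.val_mul, Units.val_mul]
      simp only [f, mul_assoc]
  have hper : Function.IsPeriodicPt f r k := by
    show f^[r] k = k
    rw [hit, hgr, inv_one, Units.val_one, one_mul, mul_one]
  have hmemK : ∀ i, f^[i] k ∈ K := by
    intro i
    rw [hit]
    exact (pow_mem hg i k).mp hk
  rcases (Nat.dvd_prime hr).mp hper.minimalPeriod_dvd with h1 | h1
  · have hfix : f k = k := Function.minimalPeriod_eq_one_iff_isFixedPt.mp h1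
    conv_rhs => rw [← hfix]
    simp [f, mul_assoc]
  · exfalso
    have hle := le_three_of_charpoly (P := k.charpoly) K.val Subtype.val_injective
      (fun i => (⟨f^[i] k, hmemK i⟩ : K))
      (r := r) (fun i => by
        show (f^[i] k).charpoly = _
        rw [hit]
        rw [Matrix.coe_units_inv]
        exact Matrix.charpoly_units_conj _ _) (fun i hi j hj hij => by
        rw [Set.mem_Iio, ← h1] at hi hj
        exact Function.iterate_injOn_Iio_minimalPeriod hi hj (congrArg Subtype.val hij))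
    omega

theorem fix_of_frame (b : Module.Basis (Fin (Fintype.card (Fin 3))) F (Fin 3 → F)) {g : GL (Fin 3) F}
    (hperm : ∀ i, ∃ (j : Fin (Fintype.card (Fin 3))) (c : F),
      (g : Matrix (Fin 3) (Fin 3) F) *ᵥ b i = c • b j)
    {r : ℕ} (hr : r.Prime) (hr5 : 5 ≤ r) (hgr : g ^ r = 1) :
    ∃ c : F, (g : Matrix (Fin 3) (Fin 3) F) *ᵥ b ⟨0, by simp⟩ = c • b ⟨0, by simp⟩ := by
  classical
  choose π c hπ using hperm
  have hc : ∀ i, c i ≠ 0 := fun i h => b.ne_zero i (by
    refine Aschbacher.mulVec_gl_inj g ?_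
    show _ *ᵥ b i = _ *ᵥ 0
    rw [hπ, h, zero_smul, mulVec_zero])
  have hinj : Function.Injective π := by
    intro i j hij
    have h1 : c j • b i = c i • b j := by
      refine Aschbacher.mulVec_gl_inj g ?_
      show _ *ᵥ (c j • b i) = _ *ᵥ (c i • b j)
      rw [mulVec_smul, mulVec_smul, hπ, hπ, hij, smul_comm]
    by_contra hne
    have h2 := congrArg (fun v => b.repr v i) h1
    simp only [map_smul, b.repr_self, Finsupp.smul_apply, smul_eq_mul, Finsupp.single_eq_same,
      Finsupp.single_eq_of_ne hne, mul_one, mul_zero] at h2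
    exact hc j h2
  let σ : Equiv.Perm (Fin (Fintype.card (Fin 3))) :=
    Equiv.ofBijective π (Finite.injective_iff_bijective.mp hinj)
  have hit : ∀ (k : ℕ) i, ∃ d : F,
      ((g ^ k : GL (Fin 3) F) : Matrix (Fin 3) (Fin 3) F) *ᵥ b i = d • b ((σ ^ k) i) := by
    intro k
    induction k with
    | zero => exact fun i => ⟨1, by simp⟩
    | succ k ih =>
      intro i
      obtain ⟨d, hd⟩ := ih i
      refine ⟨d * c ((σ ^ k) i), ?_⟩
      rw [pow_succ', Units.val_mul, ← mulVec_mulVec, hd, mulVec_smul, hπ, smul_smul, pow_succ',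
        Equiv.Perm.mul_apply]
      rfl
  have hσr : σ ^ r = 1 := by
    ext i : 1
    obtain ⟨d, hd⟩ := hit r i
    rw [hgr, Units.val_one, one_mulVec] at hd
    rw [Equiv.Perm.one_apply]
    by_contra hne
    have h2 := congrArg (fun v => b.repr v i) hd
    simp only [map_smul, b.repr_self, Finsupp.smul_apply, smul_eq_mul, Finsupp.single_eq_same,
      Finsupp.single_eq_of_ne' hne, mul_zero] at h2
    exact one_ne_zero h2
  have hσ : σ = 1 := by
    rcases (Nat.dvd_prime hr).mp (orderOf_dvd_of_pow_eq_one hσr) with h | h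
    · exact orderOf_eq_one_iff.mp h
    · have hd := orderOf_dvd_card (x := σ)
      rw [h, Fintype.card_perm, Fintype.card_fin, Fintype.card_fin] at hd
      norm_num [Nat.factorial] at hd
      rcases (Nat.le_of_dvd (by norm_num) hd).lt_or_eq with h6 | h6
      · interval_cases r <;> norm_num at hd
      · rw [h6] at hr; norm_num at hr
  refine ⟨c ⟨0, by simp⟩, (hπ _).trans ?_⟩
  rw [show π ⟨0, by simp⟩ = σ ⟨0, by simp⟩ from rfl, hσ]
  rfl

theorem eq_of_dvd_nine {a b r : ℕ} (hr : r.Prime) (hr5 : 5 ≤ r) (ha : a ∣ 9) (hb : b ∣ 9)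
    (h : a ≡ b [MOD r]) : a = b := by
  have hd9 : Nat.divisors 9 = {1, 3, 9} := by decide
  have ha' := Nat.mem_divisors.mpr ⟨ha, show 9 ≠ 0 by norm_num⟩
  have hb' := Nat.mem_divisors.mpr ⟨hb, show 9 ≠ 0 by norm_num⟩
  simp only [hd9, Finset.mem_insert, Finset.mem_singleton] at ha' hb'
  by_cases hr10 : 10 ≤ r
  · rwa [Nat.ModEq, Nat.mod_eq_of_lt (by omega), Nat.mod_eq_of_lt (by omega)] at h
  · have h' : a % r = b % r := h
    interval_cases r <;> first | omega | norm_num at hr

/-- An element of large prime order normalising a symplectic-type group is scalar. -/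
theorem mem_scalars_of_normalizes_classTwo {R : Subgroup (GL (Fin 3) F)}
    (hR : Aschbacher.ClassTwo R) {g : GL (Fin 3) F} (hg : ∀ y ∈ R, g * y * g⁻¹ ∈ R)
    {r : ℕ} (hr : r.Prime) (hr5 : 5 ≤ r) (hgr : g ^ r = 1) : g ∈ Geo.scalars (Fin 3) F := by
  classical
  haveI : Fact r.Prime := ⟨hr⟩
  have hn : (Fintype.card (Fin 3)).Prime := by rw [Fintype.card_fin]; norm_num
  have hodd : Odd (Fintype.card (Fin 3)) := by rw [Fintype.card_fin]; decide
  obtain ⟨x, y, ω, h⟩ := hR.exists_hpair
  have hcard : Nat.card R = 27 := by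
    rw [h.natCard hR hn hodd, Fintype.card_fin]; norm_num
  haveI : (Geo.scalars (Fin 3) F).Normal := Geo.scalars_normal
  set π := QuotientGroup.mk' (Geo.scalars (Fin 3) F) with hπ
  have hbar : Nat.card (R.map π) ∣ 9 := by
    set f := π.comp R.subtype with hf
    have h1 : Nat.card f.ker * Nat.card f.range = Nat.card R := by
      rw [← Subgroup.index_ker, Subgroup.card_mul_index]
    have hz : 3 ∣ Nat.card f.ker := by
      obtain ⟨z, hzR, hz⟩ := h.omega_mem hR 1
      rw [pow_one] at hz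
      have hω3 := h.omega_pow hR
      rw [Fintype.card_fin] at hω3
      have hmem : (⟨z, hzR⟩ : R) ∈ f.ker :=
        (QuotientGroup.eq_one_iff _).mpr (Aschbacher.mem_scalars_of_smul hz)
      have hord : orderOf (⟨⟨z, hzR⟩, hmem⟩ : f.ker) = 3 := by
        haveI : Fact (Nat.Prime 3) := ⟨Nat.prime_three⟩
        refine orderOf_eq_prime (Subtype.ext (Subtype.ext (Units.ext ?_))) fun h0 => h.ne_one ?_
        · show (((z : GL (Fin 3) F) ^ 3 : GL (Fin 3) F) : Matrix (Fin 3) (Fin 3) F) = 1
          rw [Units.val_pow_eq_pow_val, hz, _root_.smul_pow, one_pow, hω3, one_smul]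
        · have h1 : (z : Matrix (Fin 3) (Fin 3) F) = 1 :=
            congrArg (fun w : f.ker => (((w : R) : GL (Fin 3) F) : Matrix (Fin 3) (Fin 3) F)) h0
          have := congrFun (congrFun (hz.symm.trans h1) 0) 0
          simpa using this
      have hdvd := orderOf_dvd_natCard (⟨⟨z, hzR⟩, hmem⟩ : f.ker)
      rwa [hord] at hdvd
    rw [show R.map π = f.range by rw [hf, MonoidHom.range_comp, Subgroup.range_subtype]]
    obtain ⟨m, hm⟩ := hz
    rw [hm, hcard, mul_assoc] at h1
    exact Dvd.intro_left m (Nat.eq_of_mul_eq_mul_left (show 0 < 3 by norm_num) (h1.trans (by norm_num)))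
  set gb := π g with hgb
  have hst : ∀ a ∈ R.map π, gb * a * gb⁻¹ ∈ R.map π := by
    rintro _ ⟨w, hw, rfl⟩
    exact ⟨g * w * g⁻¹, hg w hw, by rw [map_mul, map_mul, map_inv]⟩
  haveI : Finite (R.map π) := Nat.finite_of_card_ne_zero (fun h0 => by
    rw [h0] at hbar; norm_num at hbar)
  haveI := Fintype.ofFinite (R.map π)
  let f : Function.End (R.map π) := fun a => ⟨gb * a * gb⁻¹, hst a a.2⟩
  have hfpow : ∀ (n : ℕ) (a : R.map π), (((f ^ n) a : R.map π) : GL (Fin 3) F ⧸ Geo.scalars (Fin 3) F) =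
      gb ^ n * a * (gb ^ n)⁻¹ := by
    intro n
    induction n with
    | zero => intro a; simp; rfl
    | succ n ih =>
      intro a
      rw [pow_succ' f]
      show gb * ((f ^ n) a : R.map π) * gb⁻¹ = _
      rw [ih a, pow_succ']
      group
  have hfr : f ^ r ^ 1 = 1 := by
    rw [pow_one]
    funext a
    refine Subtype.ext ((hfpow r a).trans ?_)
    rw [hgb, ← map_pow, hgr, map_one, inv_one, one_mul, mul_one]
    rfl
  have hmod := Equiv.Perm.card_fixedPoints_modEq hfr
  set S : Subgroup (R.map π) := (Subgroup.centralizer {gb}).subgroupOf (R.map π) with hS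
  have hfix : ∀ a : R.map π, a ∈ Function.fixedPoints f ↔ a ∈ S := by
    intro a
    rw [Function.mem_fixedPoints, hS, Subgroup.mem_subgroupOf, Subgroup.mem_centralizer_singleton_iff,
      Function.IsFixedPt, Subtype.ext_iff]
    show gb * (a : GL (Fin 3) F ⧸ Geo.scalars (Fin 3) F) * gb⁻¹ = a ↔ _
    rw [mul_inv_eq_iff_eq_mul]
    exact eq_comm
  rw [← Nat.card_eq_fintype_card, ← Nat.card_eq_fintype_card,
    Nat.card_congr (Equiv.subtypeEquivRight hfix)] at hmod
  change Nat.ModEq r (Nat.card (R.map π)) (Nat.card S) at hmod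
  have hSdvd : Nat.card S ∣ Nat.card (R.map π) := Subgroup.card_subgroup_dvd_card S
  have heq : Nat.card S = Nat.card (R.map π) :=
    eq_of_dvd_nine hr hr5 (hSdvd.trans hbar) hbar hmod.symm
  have hStop : S = ⊤ := Subgroup.eq_top_of_card_eq S heq
  refine Aschbacher.mem_scalars_of_commute hR.absIrr fun w hw => ?_
  have hw' : (⟨π w, ⟨w, hw, rfl⟩⟩ : R.map π) ∈ S := hStop ▸ Subgroup.mem_top _
  rw [hS, Subgroup.mem_subgroupOf, Subgroup.mem_centralizer_singleton_iff] at hw'
  have hker : g * w * g⁻¹ * w⁻¹ ∈ Geo.scalars (Fin 3) F := by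
    rw [← QuotientGroup.eq_one_iff]
    show π (g * w * g⁻¹ * w⁻¹) = 1
    rw [map_mul, map_mul, map_mul, map_inv, map_inv]
    have : π g * π w = π w * π g := by simpa [hgb] using hw'.symm
    rw [this, mul_inv_cancel_right, mul_inv_cancel]
  obtain ⟨c, hc⟩ := (Geo.mem_scalars_iff _).mp hker
  have hconj : g * w * g⁻¹ = (g * w * g⁻¹ * w⁻¹) * w := by group
  set z := g * w * g⁻¹ * w⁻¹ with hz
  have hzc := fun u => Aschbacher.scalars_central hker u
  have hn' : ∀ n : ℕ, g ^ n * w * (g ^ n)⁻¹ = z ^ n * w := by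
    intro n
    induction n with
    | zero => simp
    | succ n ih =>
      have hgz : g * z ^ n = z ^ n * g := (Commute.pow_right (hzc g) n).eq
      calc g ^ (n + 1) * w * (g ^ (n + 1))⁻¹
          = g * (g ^ n * w * (g ^ n)⁻¹) * g⁻¹ := by rw [pow_succ']; group
        _ = g * z ^ n * w * g⁻¹ := by rw [ih]; group
        _ = z ^ n * (g * w * g⁻¹) := by rw [hgz]; group
        _ = z ^ n * (z * w) := congrArg (z ^ n * ·) hconj
        _ = z ^ (n + 1) * w := by rw [← mul_assoc, ← pow_succ]
  have hzr : z ^ r = 1 := by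
    have := hn' r
    rw [hgr, one_mul, inv_one, mul_one] at this
    exact mul_eq_right.mp this.symm
  have hz3 : z ^ 3 = 1 := by
    have hwdet := Aschbacher.det_eq_one_of_mem (hR.det_one hw)
    have hgw := Aschbacher.det_eq_one_of_mem (hR.det_one (hg w hw))
    rw [hconj, Units.val_mul, Matrix.det_mul, hwdet, mul_one, hc, Matrix.det_smul, Matrix.det_one,
      mul_one, Fintype.card_fin] at hgw
    refine Units.ext ?_
    rw [Units.val_pow_eq_pow_val, hc, _root_.smul_pow, one_pow, hgw, one_smul, Units.val_one]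
  have hcop : Nat.Coprime r 3 := (Nat.coprime_primes hr Nat.prime_three).mpr (by omega)
  have hz1 : z = 1 := by
    have := pow_gcd_eq_one.mpr ⟨hzr, hz3⟩
    rwa [hcop.gcd_eq_one, pow_one] at this
  rw [hz1, one_mul, mul_inv_eq_iff_eq_mul] at hconj
  exact hconj

/-- A group of odd order containing the torus normalises the field. -/
theorem le_normalizer_of_odd (hT : ∀ t ∈ torus e, muU e t ∈ M)
    (hM : M ≤ Geo.specialLinear (Fin 3) F) (hodd : Odd (Nat.card M)) :
    M ≤ Geo.subalgebraNormalizer (muA e).range := by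
  have hn : (Fintype.card (Fin 3)).Prime := by rw [Fintype.card_fin]; norm_num
  have hirr := irr_of_torus e hT
  obtain ⟨r, x, hr, hr5, hxT, hxr, hx⟩ := exists_torus_element e
  have hgM := hT x hxT
  have hgr : muU e x ^ r = 1 := by rw [← map_pow, hxr, map_one]
  have hnots : muU e x ∉ Geo.scalars (Fin 3) F := by
    intro h
    obtain ⟨c, hc⟩ := (Geo.mem_scalars_iff _).mp h
    refine hx c (mu_injective e ?_)
    rw [mu_algebraMap]
    exact hc.symm
  rcases Aschbacher.prime_structure hn hirr with ⟨D, -, hD, hdiag, hns⟩ | ⟨A, -, hA, hcomm, hAirr⟩ |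
    ⟨R, hRM, hR, hRc, hR2, hRabs⟩ | ⟨P, hP⟩
  · exfalso
    obtain ⟨b, χ, -, -, hperm, -⟩ := Aschbacher.exists_frame hn hD hirr hdiag hns
    obtain ⟨c, hc⟩ := fix_of_frame b (hperm _ hgM) hr hr5 hgr
    obtain ⟨y, hy⟩ := e.surjective (b ⟨0, by simp⟩)
    rw [← hy, muU_mulVec, ← map_smul] at hc
    have hy0 : y ≠ 0 := fun h => b.ne_zero _ (by rw [← hy, h, map_zero])
    refine hx c (mul_right_cancel₀ hy0 ?_)
    rw [← Algebra.smul_def]
    exact (e.injective hc).symm
  · obtain ⟨hfld, hle⟩ := Aschbacher.field_of_comm_irr hn hA hcomm hAirr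
    rw [Fintype.card_fin] at hfld
    have hsub : Algebra.adjoin F (Geo.matrixSet A) ≤ (muA e).range := fun k hk =>
      mem_range_of_commute e hx (commute_of_normalizes hfld (hle hgM) hr hr5 hgr hk).symm
    rwa [Subalgebra.eq_of_le_of_finrank_eq hsub (hfld.finrank_eq.trans (finrank_range_muA e).symm)]
      at hle
  · exact absurd (mem_scalars_of_normalizes_classTwo ⟨hRc, hR2, hRM.trans hM, hRabs⟩
      (fun y hy => hR _ hgM y hy) hr hr5 hgr) hnots
  · exfalso
    haveI : Group.IsSolvable M := PF14.feitThompson M hodd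
    haveI : Group.IsSolvable P := solvable_of_solvable_injective (Subgroup.inclusion_injective hP.le)
    by_cases hbot : P = ⊥
    · haveI : Subsingleton P := by rw [hbot]; infer_instance
      exact hP.nonabelian ⟨⟨fun a b => Subsingleton.elim (a * b) (b * a)⟩⟩
    · haveI : Nontrivial P := P.nontrivial_iff_ne_bot.mpr hbot
      refine (Group.IsSolvable.commutator_lt_top_of_nontrivial P).ne (Subgroup.map_injective
        P.subtype_injective ?_)
      rw [Subgroup.map_subtype_commutator, hP.perfect, ← MonoidHom.range_eq_map, Subgroup.range_subtype]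

end Cfsg.Agent.SL3Geo70
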