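import Cfsg.Agent.SL3Geo70.Invol
import Cfsg.Agent.SL3Geo70.Odd
import Cfsg.Agent.Aschbacher.Linear

/-!
The normaliser of a Singer torus is maximal in `SL(3, q)`, `q ≠ 4` (S5774, clause 3; helper70).
-/

set_option autoImplicit false
set_option linter.unusedSectionVars false
set_option linter.style.haveILetI false

namespace Cfsg.Agent.SL3Geo70

open Matrix Cfsg.Agent.MaxSub

variable {F : Type*} [Field F] [Fintype F]

theorem mem_normalizer_of_commute {K : Subalgebra F (Matrix (Fin 3) (Fin 3) F)}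
    (hK : Geo.IsFieldSubalgebra 3 K) {g : GL (Fin 3) F} (hg : (g : Matrix (Fin 3) (Fin 3) F) ∈ K)
    (hg' : ((g⁻¹ : GL (Fin 3) F) : Matrix (Fin 3) (Fin 3) F) ∈ K) :
    g ∈ Geo.subalgebraNormalizer K := fun k => by
  constructor
  · exact fun hk => K.mul_mem (K.mul_mem hg hk) hg'
  · intro h
    have h2 := K.mul_mem (K.mul_mem hg' h) hg
    simpa [mul_assoc] using h2

/-- The core, with the field in coordinates. -/
theorem isMaximalIn_of_model {E : Type*} [Field E] [Algebra F E] (e : E ≃ₗ[F] (Fin 3 → F))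
    {K : Subalgebra F (Matrix (Fin 3) (Fin 3) F)} (hK : Geo.IsFieldSubalgebra 3 K)
    (hq4 : Fintype.card F ≠ 4) (hrange : (muA e).range = K) :
    Geo.IsMaximalIn (Geo.specialLinear (Fin 3) F)
      (Geo.subalgebraNormalizer K ⊓ Geo.specialLinear (Fin 3) F) := by
  haveI := finite_E e
  letI : Fintype (Pt F E) := Fintype.ofFinite _
  have hne : ¬ Geo.specialLinear (Fin 3) F ≤ Geo.subalgebraNormalizer K :=
    Aschbacher.sl_not_le_subalgebraNormalizer (by rw [Fintype.card_fin]) hK (by norm_num)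
  obtain ⟨y, hy, hy'⟩ := SetLike.not_le_iff_exists.mp hne
  refine isMaximalIn_of inf_le_right ⟨y, hy, fun h => hy' h.1⟩ fun M hHM hMS g hg hgH => ?_
  have hmem : ∀ x : E, mu e x ∈ K := fun x => hrange ▸ ⟨x, rfl⟩
  have hT : ∀ t ∈ torus e, muU e t ∈ M := fun t ht => hHM
    ⟨mem_normalizer_of_commute hK (hmem _) (by rw [← map_inv]; exact hmem _), ht⟩
  rcases Nat.even_or_odd (Nat.card M) with he | ho
  · obtain ⟨s, hs⟩ := exists_prime_orderOf_dvd_card' (p := 2) he.two_dvd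
    have hs2 : (s : GL (Fin 3) F) * s = 1 := by
      have h := pow_orderOf_eq_one s
      rw [hs, sq] at h
      exact congrArg Subtype.val h
    have hs1 : (s : GL (Fin 3) F) ≠ 1 := fun h => by
      have h1 : s = 1 := Subtype.ext h
      rw [h1, orderOf_one] at hs
      exact absurd hs (by norm_num)
    obtain ⟨v, φ, hv, hφ, hφ0⟩ := exists_transvection e hT hMS s.2 hs2 hs1
    exact specialLinear_le_of_transvection e hq4 hT hv hφ hφ0
  · refine absurd ⟨?_, hMS hg⟩ hgH
    exact hrange ▸ le_normalizer_of_odd e hT hMS ho hg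

/-- Clause (3) of S5774. -/
theorem singer_maximal : Fintype.card F ≠ 4 → ∀ K : Subalgebra F (Matrix (Fin 3) (Fin 3) F), Cfsg.Geo.IsFieldSubalgebra 3 K → Cfsg.Geo.IsMaximalIn (Cfsg.Geo.specialLinear (Fin 3) F) (Cfsg.Geo.subalgebraNormalizer K ⊓ Cfsg.Geo.specialLinear (Fin 3) F) := by
  intro hq4 K hK
  letI : Field K := (isField_of_fieldSubalgebra hK).toField
  let v₀ : Fin 3 → F := Pi.single 0 1
  have hv₀ : v₀ ≠ 0 := fun h => one_ne_zero (α := F) (by simpa [v₀] using congrFun h 0)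
  let ev : K →ₗ[F] (Fin 3 → F) :=
    { toFun := fun k => (k : Matrix (Fin 3) (Fin 3) F) *ᵥ v₀
      map_add' := fun a b => by simp [Matrix.add_mulVec]
      map_smul' := fun c a => by simp [Matrix.smul_mulVec] }
  have hinj : Function.Injective ev := by
    rw [← LinearMap.ker_eq_bot, Submodule.eq_bot_iff]
    intro k hk
    by_contra h0
    obtain ⟨l, hl, hkl⟩ := hK.inv _ k.2 fun h => h0 (Subtype.ext h)
    have h1 : (k : Matrix (Fin 3) (Fin 3) F) *ᵥ v₀ = 0 := hk
    refine hv₀ ?_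
    rw [← one_mulVec v₀, ← hkl, hK.comm _ k.2 _ hl, ← mulVec_mulVec, h1, mulVec_zero]
  let e : K ≃ₗ[F] (Fin 3 → F) :=
    LinearMap.linearEquivOfInjective ev hinj (by rw [hK.finrank_eq, Module.finrank_fin_fun])
  have hmu : ∀ k : K, mu e k = (k : Matrix (Fin 3) (Fin 3) F) := fun k => ext_e e fun z => by
    rw [mu_mulVec]
    exact (mulVec_mulVec v₀ (k : Matrix (Fin 3) (Fin 3) F) (z : Matrix (Fin 3) (Fin 3) F)).symm
  refine isMaximalIn_of_model e hK hq4 (le_antisymm ?_ fun k hk => ⟨⟨k, hk⟩, hmu _⟩)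
  rintro _ ⟨k, rfl⟩
  show mu e k ∈ K
  rw [hmu]
  exact k.2

end Cfsg.Agent.SL3Geo70
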