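import Mathlib

/-!
Counting in the classes of a difference set (helper70).

`L` is a set of `q + 1` elements of a cyclic group of order `q² + q + 1` in which every non-trivial
quotient occurs at most once, and `U` is a subgroup containing all cubes.
-/

set_option autoImplicit false
set_option linter.unusedSectionVars false
set_option linter.style.haveILetI false
set_option maxHeartbeats 800000

namespace Cfsg.Agent.SL3Geo70

theorem sq_le_of_sum {x y z q : ℤ} (h : x + y + z = 0) (hs : x ^ 2 + y ^ 2 + z ^ 2 = 6 * q) :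
    x ^ 2 ≤ 4 * q := by
  obtain rfl : z = -x - y := by linarith
  nlinarith [sq_nonneg (x + 2 * y)]

theorem seven_false {b d : ℕ} (h : b + d = 6) (hs : b * b + d * d = 22) : False := by
  obtain rfl : d = 6 - b := by omega
  have hb : b ≤ 6 := by omega
  interval_cases b <;> norm_num at hs

theorem single_arith {q a b d : ℕ} (h4 : 4 ∣ q) (h16 : 16 ≤ q) (h : a + b + d = q + 1)
    (fa : a % 2 = 1 ∧ (4 ≤ a → a % 4 = 1) ∧ 3 ≤ a ∧ (q = 16 → a ≤ 8) ∧ (16 < q → 4 ≤ a))
    (fb : b % 2 = 1 ∧ (4 ≤ b → b % 4 = 1) ∧ 3 ≤ b ∧ (q = 16 → b ≤ 8) ∧ (16 < q → 4 ≤ b))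
    (fd : d % 2 = 1 ∧ (4 ≤ d → d % 4 = 1) ∧ 3 ≤ d ∧ (q = 16 → d ≤ 8) ∧ (16 < q → 4 ≤ d)) :
    False := by
  omega

variable {Γ : Type*} [CommGroup Γ] [Finite Γ]

/-- The hypotheses of the counting. -/
structure CountData (q : ℕ) (U : Subgroup Γ) (L : Finset Γ) : Prop where
  card_group : Nat.card Γ = q ^ 2 + q + 1
  cyclic : IsCyclic Γ
  card_L : L.card = q + 1
  diff : ∀ a ∈ L, ∀ b ∈ L, ∀ c ∈ L, ∀ d ∈ L, a * b⁻¹ = c * d⁻¹ → a ≠ b → a = c
  cube : ∀ γ : Γ, γ ^ 3 ∈ U

variable {q : ℕ} {U : Subgroup Γ} {L : Finset Γ}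

open Classical in
/-- The number of elements of `L` in a class. -/
noncomputable def cls (U : Subgroup Γ) (L : Finset Γ) (c : Γ ⧸ U) : ℕ :=
  (L.filter fun γ : Γ => (QuotientGroup.mk γ : Γ ⧸ U) = c).card

namespace CountData

theorem index_cases (D : CountData q U L) : U.index = 1 ∨ U.index = 3 := by
  haveI := D.cyclic
  haveI : IsCyclic (Γ ⧸ U) :=
    isCyclic_of_surjective (QuotientGroup.mk' U) (QuotientGroup.mk'_surjective U)
  have h1 : Monoid.exponent (Γ ⧸ U) ∣ 3 :=
    Monoid.exponent_dvd_of_forall_pow_eq_one fun x => by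
      obtain ⟨γ, rfl⟩ := QuotientGroup.mk'_surjective U x
      rw [← map_pow]
      exact (QuotientGroup.eq_one_iff _).mpr (D.cube γ)
  rw [IsCyclic.exponent_eq_card] at h1
  rcases (Nat.dvd_prime Nat.prime_three).mp h1 with h | h
  · exact Or.inl h
  · exact Or.inr h

theorem card_U (D : CountData q U L) : U.index * Nat.card U = q ^ 2 + q + 1 := by
  rw [← D.card_group, Subgroup.index_mul_card]

theorem q_mod (D : CountData q U L) (h3 : U.index = 3) : q % 3 = 1 := by
  have h := D.card_U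
  rw [h3] at h
  have h' : (q ^ 2 + q + 1) % 3 = 0 := by rw [← h]; simp
  have hq : q % 3 < 3 := Nat.mod_lt _ (by norm_num)
  rw [Nat.add_mod, Nat.add_mod (q ^ 2), Nat.pow_mod] at h'
  interval_cases hm : q % 3 <;> simp_all

open Classical in
theorem sum_cls [Fintype (Γ ⧸ U)] (D : CountData q U L) : ∑ c, cls U L c = q + 1 := by
  rw [← D.card_L, Finset.card_eq_sum_card_fiberwise (f := fun γ : Γ => (QuotientGroup.mk γ : Γ ⧸ U))
    (t := Finset.univ) fun x _ => Finset.mem_univ _]
  rfl

open Classical in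
/-- Every non-trivial element is a quotient of two elements of `L`, exactly once. -/
theorem sum_sq [Fintype (Γ ⧸ U)] (D : CountData q U L) :
    ∑ c, cls U L c * cls U L c + 1 = q + 1 + Nat.card U := by
  haveI := Fintype.ofFinite Γ
  let f : Γ × Γ → Γ := fun x => x.1 * x.2⁻¹
  have hinj : Set.InjOn f L.offDiag := by
    rintro ⟨a, b⟩ hab ⟨c, d⟩ hcd h
    simp only [Finset.mem_coe, Finset.mem_offDiag] at hab hcd
    have hac := D.diff a hab.1 b hab.2.1 c hcd.1 d hcd.2.1 h hab.2.2
    subst hac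
    exact Prod.ext rfl (inv_injective (mul_left_cancel h))
  have himg : L.offDiag.image f = Finset.univ.erase 1 := by
    refine Finset.eq_of_subset_of_card_le (fun x hx => ?_) ?_
    · obtain ⟨⟨a, b⟩, hab, rfl⟩ := Finset.mem_image.mp hx
      refine Finset.mem_erase.mpr ⟨fun h => ?_, Finset.mem_univ _⟩
      exact (Finset.mem_offDiag.mp hab).2.2 (mul_inv_eq_one.mp h)
    · rw [Finset.card_image_of_injOn hinj, Finset.offDiag_card, D.card_L,
        Finset.card_erase_of_mem (Finset.mem_univ _), Finset.card_univ, ← Nat.card_eq_fintype_card,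
        D.card_group]
      have : (q + 1) * (q + 1) = q ^ 2 + q + 1 + q := by ring
      omega
  have hUset : (L.offDiag.filter fun x => f x ∈ U).card + 1 = Nat.card U := by
    rw [← Finset.card_image_of_injOn (hinj.mono (Finset.coe_subset.mpr (Finset.filter_subset _ _))),
      show (L.offDiag.filter fun x => f x ∈ U).image f = (L.offDiag.image f).filter (fun y => y ∈ U) by
        ext y; simp only [Finset.mem_image, Finset.mem_filter]; constructor
        · rintro ⟨x, ⟨hx, hxU⟩, rfl⟩; exact ⟨⟨x, hx, rfl⟩, hxU⟩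
        · rintro ⟨⟨x, hx, rfl⟩, hxU⟩; exact ⟨x, ⟨hx, hxU⟩, rfl⟩,
      himg, Finset.filter_erase,
      Finset.card_erase_add_one (by simp [U.one_mem]), ← Fintype.card_subtype,
      ← Nat.card_eq_fintype_card]
  have hdiag : (L.diag.filter fun x => f x ∈ U).card = q + 1 := by
    rw [Finset.filter_true_of_mem, Finset.diag_card, D.card_L]
    rintro ⟨a, b⟩ hab
    obtain ⟨-, (rfl : a = b)⟩ := Finset.mem_diag.mp hab
    simp [f, U.one_mem]
  have hsplit : ((L ×ˢ L).filter fun x => f x ∈ U).card =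
      ∑ c, cls U L c * cls U L c := by
    rw [Finset.card_eq_sum_card_fiberwise (f := fun x : Γ × Γ => (QuotientGroup.mk x.1 : Γ ⧸ U))
      (t := Finset.univ) fun x _ => Finset.mem_univ _]
    refine Finset.sum_congr rfl fun c _ => ?_
    rw [Finset.filter_filter, show cls U L c * cls U L c =
      ((L.filter fun γ : Γ => (QuotientGroup.mk γ : Γ ⧸ U) = c) ×ˢ
        (L.filter fun γ : Γ => (QuotientGroup.mk γ : Γ ⧸ U) = c)).card from
      (Finset.card_product _ _).symm]
    congr 1
    ext ⟨a, b⟩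
    simp only [Finset.mem_filter, Finset.mem_product, f]
    have e : a * b⁻¹ ∈ U ↔ (QuotientGroup.mk b : Γ ⧸ U) = QuotientGroup.mk a := by
      rw [QuotientGroup.eq, mul_comm a b⁻¹]
    rw [e]
    constructor
    · rintro ⟨⟨ha, hb⟩, h, rfl⟩
      exact ⟨⟨ha, rfl⟩, hb, h⟩
    · rintro ⟨⟨ha, rfl⟩, hb, h⟩
      exact ⟨⟨ha, hb⟩, h, rfl⟩
  have hu : (L ×ˢ L) = L.diag ∪ L.offDiag := (Finset.diag_union_offDiag L).symm
  rw [← hsplit, hu, Finset.filter_union, Finset.card_union_of_disjoint, hdiag, ← hUset]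
  · ring
  · exact Finset.disjoint_filter_filter (Finset.disjoint_diag_offDiag L)

/-- With three classes the sizes are close to a third of the whole. -/
theorem three (D : CountData q U L) (h3 : U.index = 3) :
    ∃ e : Fin 3 ≃ Γ ⧸ U, cls U L (e 0) + cls U L (e 1) + cls U L (e 2) = q + 1 ∧
      3 * (cls U L (e 0) * cls U L (e 0) + cls U L (e 1) * cls U L (e 1) +
        cls U L (e 2) * cls U L (e 2)) = q ^ 2 + 4 * q + 1 := by
  haveI := Fintype.ofFinite (Γ ⧸ U)
  have hc : Fintype.card (Γ ⧸ U) = 3 := by rw [← Nat.card_eq_fintype_card]; exact h3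
  let e : Fin 3 ≃ Γ ⧸ U := (Fintype.equivFinOfCardEq hc).symm
  have h1 := D.sum_cls
  have h2 := D.sum_sq
  rw [← e.sum_comp, Fin.sum_univ_three] at h1 h2
  have h4 := D.card_U
  rw [h3] at h4
  exact ⟨e, h1, by omega⟩

theorem bound (D : CountData q U L) (h3 : U.index = 3) (c : Γ ⧸ U) :
    ((3 * (cls U L c : ℤ)) - (q + 1)) ^ 2 ≤ 4 * q := by
  obtain ⟨e, h1, h2⟩ := D.three h3
  obtain ⟨i, rfl⟩ := e.surjective c
  set a := (cls U L (e 0) : ℤ) with ha
  set b := (cls U L (e 1) : ℤ) with hb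
  set d := (cls U L (e 2) : ℤ) with hd
  have h1' : a + b + d = q + 1 := by rw [ha, hb, hd]; exact_mod_cast h1
  have h2' : 3 * (a * a + b * b + d * d) = (q : ℤ) ^ 2 + 4 * q + 1 := by
    rw [ha, hb, hd]; exact_mod_cast h2
  have hs : (3 * a - (q + 1)) ^ 2 + (3 * b - (q + 1)) ^ 2 + (3 * d - (q + 1)) ^ 2 = 6 * (q : ℤ) := by
    linear_combination 3 * h2' - 6 * ((q : ℤ) + 1) * h1'
  have hx : (3 * a - (q + 1)) + (3 * b - (q + 1)) + (3 * d - (q + 1)) = (0 : ℤ) := by
    linear_combination 3 * h1'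
  fin_cases i
  · show (3 * a - (q + 1)) ^ 2 ≤ 4 * (q : ℤ)
    exact sq_le_of_sum hx hs
  · show (3 * b - (q + 1)) ^ 2 ≤ 4 * (q : ℤ)
    exact sq_le_of_sum (y := 3 * a - ((q : ℤ) + 1)) (z := 3 * d - ((q : ℤ) + 1))
      (by linear_combination hx) (by linear_combination hs)
  · show (3 * d - (q + 1)) ^ 2 ≤ 4 * (q : ℤ)
    exact sq_le_of_sum (y := 3 * a - ((q : ℤ) + 1)) (z := 3 * b - ((q : ℤ) + 1))
      (by linear_combination hx) (by linear_combination hs)

theorem two_le_cls (D : CountData q U L) (hq2 : 2 ≤ q) (hq4 : q ≠ 4) (hq7 : q ≠ 7)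
    (c : Γ ⧸ U) : 2 ≤ cls U L c := by
  rcases D.index_cases with h1 | h3
  · haveI := Fintype.ofFinite (Γ ⧸ U)
    have hc : Nat.card (Γ ⧸ U) = 1 := h1
    haveI : Subsingleton (Γ ⧸ U) := (Nat.card_eq_one_iff_unique.mp hc).1
    have hs := D.sum_cls
    rw [Fintype.sum_subsingleton _ c] at hs
    omega
  · have hb := D.bound h3 c
    have hm := D.q_mod h3
    by_contra hlt
    have ha : (cls U L c : ℤ) ≤ 1 := by omega
    have hq : q ≤ 7 := by
      by_contra h
      have : (8 : ℤ) ≤ q := by omega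
      nlinarith
    interval_cases q <;> omega

/-- An inverse-closed class of a line not through the identity is impossible. -/
theorem false_of_inv_closed (D : CountData q U L) (hodd : Odd q) (hq3 : 3 ≤ q)
    (h1 : (1 : Γ) ∉ L) (hinv : ∀ s ∈ L, s ∈ U → s⁻¹ ∈ L) : False := by
  classical
  set S := L.filter fun γ : Γ => γ ∈ U with hS
  have hdiff : ∀ s ∈ S, ∀ t ∈ S, s ≠ t → s = t⁻¹ := by
    intro s hs t ht hne
    rw [hS, Finset.mem_filter] at hs ht
    refine D.diff s hs.1 t ht.1 t⁻¹ (hinv t ht.1 ht.2) s⁻¹ (hinv s hs.1 hs.2) ?_ hne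
    rw [inv_inv, mul_comm]
  have hoddN : Odd (Nat.card Γ) := by
    rw [D.card_group]
    obtain ⟨k, rfl⟩ := hodd
    exact ⟨2 * k ^ 2 + 3 * k + 1, by ring⟩
  have hfix : ∀ s ∈ S, s⁻¹ ≠ s := by
    intro s hs h
    have h2 : s ^ 2 = 1 := by rw [sq]; exact mul_eq_one_iff_inv_eq.mpr h
    have h3 : orderOf s ∣ Nat.gcd 2 (Nat.card Γ) :=
      Nat.dvd_gcd (orderOf_dvd_of_pow_eq_one h2) (orderOf_dvd_natCard s)
    rw [(Nat.coprime_two_left.mpr hoddN).gcd_eq_one, Nat.dvd_one, orderOf_eq_one_iff] at h3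
    exact h1 (h3 ▸ (Finset.mem_filter.mp hs).1)
  have hcardS : S.card = 0 ∨ S.card = 2 := by
    rcases S.eq_empty_or_nonempty with h | ⟨s, hs⟩
    · exact Or.inl (by simp [h])
    · right
      have hs' : s⁻¹ ∈ S := by
        rw [hS, Finset.mem_filter] at hs ⊢
        exact ⟨hinv s hs.1 hs.2, inv_mem hs.2⟩
      have : S = {s, s⁻¹} := by
        ext t
        rw [Finset.mem_insert, Finset.mem_singleton]
        constructor
        · intro ht
          by_cases hts : t = s
          · exact Or.inl hts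
          · exact Or.inr (hdiff t ht s hs hts)
        · rintro (rfl | rfl) <;> assumption
      rw [this, Finset.card_pair (Ne.symm (hfix s hs))]
  have hSc : S.card = cls U L 1 := by
    rw [hS, cls]
    congr 1
    exact Finset.filter_congr fun γ _ => (QuotientGroup.eq_one_iff γ).symm
  rw [hSc] at hcardS
  rcases D.index_cases with hi | hi
  · haveI := Fintype.ofFinite (Γ ⧸ U)
    have hc : Nat.card (Γ ⧸ U) = 1 := hi
    haveI : Subsingleton (Γ ⧸ U) := (Nat.card_eq_one_iff_unique.mp hc).1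
    have hs := D.sum_cls
    rw [Fintype.sum_subsingleton _ (1 : Γ ⧸ U)] at hs
    omega
  · have hb := D.bound hi 1
    have hm := D.q_mod hi
    obtain ⟨k, hk⟩ := hodd
    rcases hcardS with h | h
    · rw [h] at hb
      have : (3 : ℤ) ≤ q := by omega
      norm_num at hb
      nlinarith
    · rw [h] at hb
      norm_num at hb
      have hq : q ≤ 11 := by
        by_contra hh
        have : (12 : ℤ) ≤ q := by omega
        nlinarith
      have hq7 : q = 7 := by omega
      subst hq7
      obtain ⟨e, e1, e2⟩ := D.three hi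
      obtain ⟨i, hi'⟩ := e.surjective (1 : Γ ⧸ U)
      rw [← hi'] at h
      fin_cases i <;> simp at h <;> rw [h] at e1 e2
      · exact seven_false (b := cls U L (e 1)) (d := cls U L (e 2)) (by omega) (by omega)
      · exact seven_false (b := cls U L (e 0)) (d := cls U L (e 2)) (by omega) (by omega)
      · exact seven_false (b := cls U L (e 0)) (d := cls U L (e 1)) (by omega) (by omega)

open Classical in
/-- The number of points of a union of classes on a line through a point of class `k`. -/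
noncomputable def cnt (U : Subgroup Γ) (L : Finset Γ) (C : Set (Γ ⧸ U)) (k c : Γ ⧸ U) : ℕ :=
  (L.filter fun γ : Γ => k * c⁻¹ * (QuotientGroup.mk γ : Γ ⧸ U) ∈ C).card

/-- A proper union of classes cannot meet the lines through its points in `1` modulo `p`
(and modulo `4` on the longer lines when `p = 2`). -/
theorem false_of_classes (D : CountData q U L) {p n : ℕ} (hp : p.Prime) (hn : n ≠ 0)
    (hq : q = p ^ n) (hq4 : q ≠ 4) {C : Set (Γ ⧸ U)} {k : Γ ⧸ U} (hk : k ∈ C) (hC : ∃ m, m ∉ C)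
    (H1 : ∀ c, 2 ≤ cls U L c → cnt U L C k c % p = 1)
    (H2 : p = 2 → ∀ c, 4 ≤ cls U L c → cnt U L C k c % 4 = 1) : False := by
  classical
  obtain ⟨m, hm⟩ := hC
  have hmk : m ≠ k := fun h => hm (h ▸ hk)
  have hi : U.index = 3 := by
    rcases D.index_cases with h | h
    · have hc : Nat.card (Γ ⧸ U) = 1 := h
      exact absurd ((Nat.card_eq_one_iff_unique.mp hc).1.elim m k) hmk
    · exact h
  haveI := Fintype.ofFinite (Γ ⧸ U)
  have hc3 : Fintype.card (Γ ⧸ U) = 3 := by rw [← Nat.card_eq_fintype_card]; exact hi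
  obtain ⟨e, h1, -⟩ := D.three hi
  have hm3 := D.q_mod hi
  have hpq : p ∣ q := hq ▸ dvd_pow_self p hn
  have hqp : q % p = 0 := Nat.mod_eq_zero_of_dvd hpq
  have hq2 : 2 ≤ q := hq ▸ hp.two_le.trans (Nat.le_self_pow hn p)
  have hp7 : q = 7 → p = 7 := fun h7 =>
    ((Nat.prime_dvd_prime_iff_eq hp (by norm_num)).mp (h7 ▸ hpq))
  have h7some : q = 7 → ∃ c, 2 ≤ cls U L c := fun h7 => by
    by_contra hcon
    push Not at hcon
    have := hcon (e 0)
    have := hcon (e 1)
    have := hcon (e 2)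
    omega
  have hbig : q ≠ 7 → ∀ c, 2 ≤ cls U L c := fun h7 c => D.two_le_cls hq2 hq4 h7 c
  by_cases hsingle : ∀ x ∈ C, x = k
  · -- one class
    have hcnt : ∀ c, cnt U L C k c = cls U L c := fun c => by
      rw [cnt, cls]
      congr 1
      refine Finset.filter_congr fun γ _ => ⟨fun h => ?_, fun h => by simpa [h] using hk⟩
      have := hsingle _ h
      rwa [mul_assoc, mul_eq_left, inv_mul_eq_one, eq_comm] at this
    simp only [hcnt] at H1 H2
    by_cases h7 : q = 7
    · obtain ⟨c, hc⟩ := h7some h7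
      have h := H1 c hc
      have hb := D.bound hi c
      rw [hp7 h7] at h
      rw [h7] at hb
      have : (8 : ℤ) ≤ cls U L c := by omega
      norm_num at hb
      nlinarith
    have hodd := fun c => H1 c (hbig h7 c)
    have hsum : (cls U L (e 0) + cls U L (e 1) + cls U L (e 2)) % p = (q + 1) % p := by rw [h1]
    rw [Nat.add_mod, Nat.add_mod (cls U L (e 0)), hodd, hodd, hodd, Nat.add_mod q, hqp, zero_add,
      Nat.mod_mod, Nat.mod_add_mod] at hsum
    have hp2 : p = 2 := by
      have h3p : (1 + 1 + 1) % p = 1 % p := hsum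
      have hdvd : p ∣ 2 := by
        have := Nat.sub_mod_eq_zero_of_mod_eq h3p
        exact Nat.dvd_of_mod_eq_zero this
      exact (Nat.prime_dvd_prime_iff_eq hp Nat.prime_two).mp hdvd
    subst hp2
    have H4 := H2 rfl
    have hn2 : 2 ≤ n := by
      by_contra h
      obtain rfl : n = 1 :=
        Nat.le_antisymm (Nat.lt_succ_iff.mp (not_le.mp h)) (Nat.one_le_iff_ne_zero.mpr hn)
      rw [pow_one] at hq
      rw [hq] at hm3
      norm_num at hm3
    have h4q : 4 ∣ q := hq ▸ pow_dvd_pow 2 hn2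
    have hq16 : 16 ≤ q := by omega
    have facts : ∀ c, cls U L c % 2 = 1 ∧ (4 ≤ cls U L c → cls U L c % 4 = 1) ∧
        3 ≤ cls U L c ∧ (q = 16 → cls U L c ≤ 8) ∧ (16 < q → 4 ≤ cls U L c) := fun c => by
      have hb := D.bound hi c
      have h2c := hbig h7 c
      refine ⟨hodd c, H4 c, by have := hodd c; omega, fun h16 => ?_, fun h16 => ?_⟩
      · rw [h16] at hb
        norm_num at hb
        by_contra hh
        have : (9 : ℤ) ≤ cls U L c := by omega
        nlinarith
      · by_contra hh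
        have : (cls U L c : ℤ) ≤ 3 := by omega
        have : (20 : ℤ) ≤ q := by omega
        nlinarith
    exact single_arith h4q hq16 h1 (facts (e 0)) (facts (e 1)) (facts (e 2))
  · -- two classes
    push Not at hsingle
    obtain ⟨k', hk', hne⟩ := hsingle
    have hCeq : ∀ x, x ∈ C ↔ x ≠ m := fun x => by
      refine ⟨fun h h' => hm (h' ▸ h), fun h => ?_⟩
      by_contra hx
      have hcard : ({x, m, k, k'} : Finset (Γ ⧸ U)).card = 4 := by
        have hxk : x ≠ k := fun h' => hx (h' ▸ hk)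
        have hxk' : x ≠ k' := fun h' => hx (h' ▸ hk')
        have hmk' : m ≠ k' := fun h' => hm (h' ▸ hk')
        rw [Finset.card_insert_of_notMem, Finset.card_insert_of_notMem, Finset.card_insert_of_notMem,
          Finset.card_singleton] <;> simp [h, hxk, hxk', hmk, hmk', Ne.symm hne]
      have := Finset.card_le_univ ({x, m, k, k'} : Finset (Γ ⧸ U))
      omega
    have hcnt : ∀ c, cnt U L C k c + cls U L (c * k⁻¹ * m) = q + 1 := fun c => by
      have hiff : ∀ γ : Γ, (k * c⁻¹ * (QuotientGroup.mk γ : Γ ⧸ U) ∈ C) ↔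
          ¬ (QuotientGroup.mk γ : Γ ⧸ U) = c * k⁻¹ * m := fun γ => by
        rw [hCeq, ne_eq, not_iff_not, mul_assoc c k⁻¹, mul_assoc k, ← eq_inv_mul_iff_mul_eq,
          inv_mul_eq_iff_eq_mul]
      rw [cnt, cls, ← D.card_L, Finset.filter_congr fun γ _ => hiff γ, add_comm,
        Finset.card_filter_add_card_filter_not]
    have key : ∀ c, 2 ≤ cls U L c → cls U L (c * k⁻¹ * m) % p = 0 := fun c hc => by
      have h := H1 c hc
      have e' := hcnt c
      have h2 : (cnt U L C k c + cls U L (c * k⁻¹ * m)) % p = (q + 1) % p := by rw [e']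
      rw [Nat.add_mod, h, Nat.add_mod q, hqp, zero_add, Nat.mod_mod] at h2
      rw [Nat.add_mod_mod] at h2
      have h3 : (1 + cls U L (c * k⁻¹ * m)) % p = (1 + 0) % p := by simpa using h2
      exact Nat.ModEq.add_left_cancel' 1 h3
    by_cases h7 : q = 7
    · obtain ⟨c, hc⟩ := h7some h7
      have h := key c hc
      have hb := D.bound hi (c * k⁻¹ * m)
      rw [hp7 h7] at h
      rw [h7] at hb
      norm_num at hb
      rcases Nat.eq_zero_or_pos (cls U L (c * k⁻¹ * m)) with h0 | h0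
      · rw [h0] at hb; norm_num at hb
      · have : (7 : ℤ) ≤ cls U L (c * k⁻¹ * m) := by omega
        nlinarith
    have hall : ∀ c, cls U L c % p = 0 := fun c => by
      have := key (c * m⁻¹ * k) (hbig h7 _)
      simpa [mul_assoc] using this
    have hsum : (cls U L (e 0) + cls U L (e 1) + cls U L (e 2)) % p = (q + 1) % p := by rw [h1]
    rw [Nat.add_mod, Nat.add_mod (cls U L (e 0)), hall, hall, hall, Nat.add_mod q, hqp] at hsum
    simp [Nat.one_mod_eq_one.mpr hp.ne_one] at hsum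

end CountData

end Cfsg.Agent.SL3Geo70
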