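import Cfsg.Agent.SL3Geo70.Transvec

/-!
An involution next to a Singer torus yields a transvection (helper70).
-/

set_option autoImplicit false
set_option linter.unusedSectionVars false
set_option linter.style.haveILetI false

namespace Cfsg.Agent.SL3Geo70

open Matrix Cfsg.Agent.MaxSub

variable {F E : Type*} [Field F] [Fintype F] [Field E] [Algebra F E]
variable {M : Subgroup (GL (Fin 3) F)}

theorem range_span {A : Matrix (Fin 3) (Fin 3) F} {a : Fin 3 → F} (ha : a ≠ 0)
    (hmem : a ∈ LinearMap.range A.mulVecLin)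
    (hr : Module.finrank F (LinearMap.range A.mulVecLin) ≤ 1) :
    ∃ φ : Fin 3 → F, A = vecMulVec a φ := by
  have hspan : Submodule.span F {a} = LinearMap.range A.mulVecLin :=
    Submodule.eq_of_le_of_finrank_le ((Submodule.span_singleton_le_iff_mem _ _).mpr hmem)
      (hr.trans (finrank_span_singleton ha).ge)
  obtain ⟨i, hi⟩ := Function.ne_iff.mp ha
  refine ⟨fun j => A i j / a i, Matrix.ext fun k j => ?_⟩
  have hm : A *ᵥ Pi.single j 1 ∈ Submodule.span F {a} := by
    rw [hspan]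
    exact ⟨Pi.single j 1, rfl⟩
  obtain ⟨c, hc⟩ := Submodule.mem_span_singleton.mp hm
  rw [mulVec_single_one] at hc
  have hk := congrFun hc k
  have hi' := congrFun hc i
  simp only [Pi.smul_apply, smul_eq_mul, Matrix.col_apply] at hk hi'
  rw [vecMulVec_apply, ← hk, ← hi', mul_div_assoc, div_self hi, mul_one, mul_comm]

theorem range_nonzero {A : Matrix (Fin 3) (Fin 3) F} (hA : A ≠ 0) :
    ∃ a ∈ LinearMap.range A.mulVecLin, a ≠ 0 := by
  by_contra hcon
  push Not at hcon
  exact hA (Matrix.ext_of_mulVec_single fun i => by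
    rw [zero_mulVec]
    exact hcon _ ⟨Pi.single i 1, rfl⟩)

/-- An involution in characteristic two is a transvection. -/
theorem transvection_of_char_two (h2 : (2 : F) = 0) {g : GL (Fin 3) F} (hgM : g ∈ M)
    (hg2 : g * g = 1) (hg1 : g ≠ 1) : ∃ v φ, v ≠ 0 ∧ φ ∈ dualSet M v ∧ φ ≠ 0 := by
  set N : Matrix (Fin 3) (Fin 3) F := (g : Matrix (Fin 3) (Fin 3) F) - 1 with hN
  have hgg : (g : Matrix (Fin 3) (Fin 3) F) * (g : Matrix (Fin 3) (Fin 3) F) = 1 := by
    rw [← Units.val_mul, hg2, Units.val_one]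
  have hNN : N * N = 0 := by
    rw [hN, sub_mul, mul_sub, hgg, one_mul, mul_one]
    ext i j
    simp only [Matrix.sub_apply, Matrix.zero_apply]
    linear_combination ((1 : Matrix (Fin 3) (Fin 3) F) i j - (g : Matrix (Fin 3) (Fin 3) F) i j) * h2
  have hN0 : N ≠ 0 := fun h => hg1 (Units.ext (sub_eq_zero.mp h))
  obtain ⟨a, hmem, ha⟩ := range_nonzero hN0
  have hle : LinearMap.range N.mulVecLin ≤ LinearMap.ker N.mulVecLin := by
    rintro _ ⟨x, rfl⟩
    rw [LinearMap.mem_ker, mulVecLin_apply, mulVecLin_apply, mulVec_mulVec, hNN, zero_mulVec]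
  have hr : Module.finrank F (LinearMap.range N.mulVecLin) ≤ 1 := by
    have h1 := Submodule.finrank_mono hle
    have h3 := N.mulVecLin.finrank_range_add_finrank_ker
    rw [Module.finrank_fin_fun] at h3
    omega
  obtain ⟨φ, hφ⟩ := range_span ha hmem hr
  have hφ0 : φ ≠ 0 := fun h => hN0 (by rw [hφ, h, vecMulVec_zero])
  have hφa : φ ⬝ᵥ a = 0 := by
    have h := hle hmem
    rw [LinearMap.mem_ker, mulVecLin_apply, hφ, vecMulVec_mulVec, op_smul_eq_smul] at h
    exact (smul_eq_zero.mp h).resolve_right ha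
  refine ⟨a, φ, ha, ⟨hφa, ?_⟩, hφ0⟩
  convert hgM
  refine Units.ext ?_
  rw [tv_coe hφa, ← hφ, hN, add_sub_cancel]

/-- The reflection-like involution with fixed point `a` and negated plane `φ = 0`. -/
def IsRefl (g : GL (Fin 3) F) (a φ : Fin 3 → F) : Prop :=
  φ ⬝ᵥ a = 1 ∧ ∀ x, (g : Matrix (Fin 3) (Fin 3) F) *ᵥ x = -x + (2 * (φ ⬝ᵥ x)) • a

theorem det_one_add_vecMulVec (a φ : Fin 3 → F) : (1 + vecMulVec a φ).det = 1 + φ ⬝ᵥ a := by
  rw [vecMulVec_eq Unit, det_one_add_replicateCol_mul_replicateRow]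

/-- An involution of determinant one in odd characteristic. -/
theorem isRefl_of_sq (h2 : (2 : F) ≠ 0) {g : GL (Fin 3) F} (hg2 : g * g = 1) (hg1 : g ≠ 1)
    (hdet : (g : Matrix (Fin 3) (Fin 3) F).det = 1) : ∃ a φ, IsRefl g a φ := by
  set G : Matrix (Fin 3) (Fin 3) F := (g : Matrix (Fin 3) (Fin 3) F) with hG
  have hgg : G * G = 1 := by rw [hG, ← Units.val_mul, hg2, Units.val_one]
  set R : Matrix (Fin 3) (Fin 3) F := (2 : F)⁻¹ • (G + 1) with hR
  set S : Matrix (Fin 3) (Fin 3) F := (2 : F)⁻¹ • (1 - G) with hS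
  have hRS : R + S = 1 := by
    rw [hR, hS, ← smul_add, show G + 1 + (1 - G) = (2 : F) • (1 : Matrix (Fin 3) (Fin 3) F) by
      rw [two_smul]; abel, smul_smul, inv_mul_cancel₀ h2, one_smul]
  have hRS0 : R * S = 0 := by
    rw [hR, hS, smul_mul_assoc, mul_smul_comm, add_mul, mul_sub, one_mul, mul_one, hgg,
      show G - 1 + (1 - G) = 0 by abel, smul_zero, smul_zero]
  have hR0 : R ≠ 0 := by
    intro h
    have : G = -1 := eq_neg_of_add_eq_zero_left
      ((smul_eq_zero.mp h).resolve_left (inv_ne_zero h2))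
    rw [this, Matrix.det_neg, Matrix.det_one, mul_one, Fintype.card_fin] at hdet
    exact h2 (by linear_combination -hdet)
  have hS0 : S ≠ 0 := fun h => hg1 (Units.ext
    ((sub_eq_zero.mp ((smul_eq_zero.mp h).resolve_left (inv_ne_zero h2))).symm))
  have hle : LinearMap.range S.mulVecLin ≤ LinearMap.ker R.mulVecLin := by
    rintro _ ⟨x, rfl⟩
    rw [LinearMap.mem_ker, mulVecLin_apply, mulVecLin_apply, mulVec_mulVec, hRS0, zero_mulVec]
  have h1 := Submodule.finrank_mono hle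
  have h3 := R.mulVecLin.finrank_range_add_finrank_ker
  rw [Module.finrank_fin_fun] at h3
  obtain ⟨a, hmem, ha⟩ := range_nonzero hR0
  obtain ⟨b, hbmem, hb⟩ := range_nonzero hS0
  have hpos : 0 < Module.finrank F (LinearMap.range S.mulVecLin) :=
    Module.finrank_pos_iff_exists_ne_zero.mpr ⟨⟨b, hbmem⟩, fun h => hb (congrArg Subtype.val h)⟩
  have hposR : 0 < Module.finrank F (LinearMap.range R.mulVecLin) :=
    Module.finrank_pos_iff_exists_ne_zero.mpr ⟨⟨a, hmem⟩, fun h => ha (congrArg Subtype.val h)⟩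
  by_cases hr : Module.finrank F (LinearMap.range R.mulVecLin) ≤ 1
  · obtain ⟨φ, hφ⟩ := range_span ha hmem hr
    have hfix : ∀ x, G *ᵥ x = -x + (2 * (φ ⬝ᵥ x)) • a := fun x => by
      have h := congrArg (fun B => B *ᵥ x) hφ
      simp only [hR, smul_mulVec, add_mulVec, one_mulVec, vecMulVec_mulVec, op_smul_eq_smul] at h
      rw [← smul_smul, ← h, smul_smul, mul_inv_cancel₀ h2, one_smul]
      abel
    refine ⟨a, φ, ?_, hfix⟩
    obtain ⟨x, hx⟩ := hmem
    rw [mulVecLin_apply] at hx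
    have hRR : R * R = R := by
      conv_rhs => rw [← mul_one R, ← hRS, mul_add, hRS0, add_zero]
    have h := congrArg (fun B => B *ᵥ x) hRR
    simp only [← mulVec_mulVec, hx] at h
    rw [hφ, vecMulVec_mulVec, op_smul_eq_smul] at h
    exact smul_left_injective F ha (h.trans (one_smul F a).symm)
  · exfalso
    obtain ⟨φ, hφ⟩ := range_span hb hbmem (by omega)
    have hG' : G = 1 + vecMulVec (-(2 : F) • b) φ := by
      rw [smul_vecMulVec, ← hφ, hS, smul_smul, neg_mul, mul_inv_cancel₀ h2, neg_one_smul]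
      abel
    obtain ⟨x, hx⟩ := hbmem
    rw [mulVecLin_apply] at hx
    have hSS : S * S = S := by
      have hSR : S * R = 0 := by
        rw [hR, hS, smul_mul_assoc, mul_smul_comm, sub_mul, one_mul, mul_add, mul_one, hgg,
          show G + 1 - (1 + G) = 0 by abel, smul_zero, smul_zero]
      conv_rhs => rw [← mul_one S, ← hRS, mul_add, hSR, zero_add]
    have h := congrArg (fun B => B *ᵥ x) hSS
    simp only [← mulVec_mulVec, hx] at h
    rw [hφ, vecMulVec_mulVec, op_smul_eq_smul] at h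
    have hφb : φ ⬝ᵥ b = 1 := smul_left_injective F hb (h.trans (one_smul F b).symm)
    rw [hG', det_one_add_vecMulVec, dotProduct_smul, hφb, smul_eq_mul, mul_one] at hdet
    exact h2 (by linear_combination -hdet)

/-- Without transvections the axis is determined by the fixed point. -/
theorem IsRefl.unique (h2 : (2 : F) ≠ 0) (hno : ∀ v φ, φ ∈ dualSet M v → v ≠ 0 → φ = 0)
    {g h : GL (Fin 3) F} (hg : g ∈ M) (hh : h ∈ M) {a φ ψ : Fin 3 → F} (h₁ : IsRefl g a φ)
    (h₂ : IsRefl h a ψ) : φ = ψ := by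
  have ha : a ≠ 0 := fun h0 => one_ne_zero (h₁.1.symm.trans (by rw [h0, dotProduct_zero]))
  have hd : ((2 : F) • (φ - ψ)) ⬝ᵥ a = 0 := by
    rw [smul_dotProduct, sub_dotProduct, h₁.1, h₂.1, sub_self, smul_zero]
  have heq : h * g = tv a ((2 : F) • (φ - ψ)) := gl_ext fun x => by
    rw [Units.val_mul, ← mulVec_mulVec, h₁.2, h₂.2, tv_mulVec hd, dotProduct_add, dotProduct_neg,
      dotProduct_smul, h₂.1, smul_dotProduct, sub_dotProduct, smul_eq_mul, smul_eq_mul]
    module
  have h0 := hno a _ ⟨hd, heq ▸ mul_mem hh hg⟩ ha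
  exact sub_eq_zero.mp ((smul_eq_zero.mp h0).resolve_left h2)

variable (e : E ≃ₗ[F] (Fin 3 → F)) [Fintype (Pt F E)]

/-- An involution in a group containing the torus yields a transvection. -/
theorem exists_transvection (hT : ∀ t ∈ torus e, muU e t ∈ M)
    (hM : M ≤ Geo.specialLinear (Fin 3) F) {g : GL (Fin 3) F} (hgM : g ∈ M) (hg2 : g * g = 1)
    (hg1 : g ≠ 1) : ∃ v φ, v ≠ 0 ∧ φ ∈ dualSet M v ∧ φ ≠ 0 := by
  by_cases h2 : (2 : F) = 0
  · exact transvection_of_char_two h2 hgM hg2 hg1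
  by_contra hcon
  push Not at hcon
  have hno : ∀ v φ, φ ∈ dualSet M v → v ≠ 0 → φ = 0 := fun v φ h hv => hcon v φ hv h
  have hdet : (g : Matrix (Fin 3) (Fin 3) F).det = 1 := by
    have := congrArg Units.val (show Matrix.GeneralLinearGroup.det g = 1 from hM hgM)
    simpa using this
  obtain ⟨a, φ, hr⟩ := isRefl_of_sq h2 hg2 hg1 hdet
  have ha : a ≠ 0 := fun h0 => one_ne_zero (hr.1.symm.trans (by rw [h0, dotProduct_zero]))
  set x₀ : Eˣ := Units.mk0 (e.symm a) (by simpa using ha) with hx₀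
  have hex₀ : e (x₀ : E) = a := e.apply_symm_apply a
  have hφ₀ : φ ᵥ* mu e (x₀ : E) ≠ 0 := fun h => by
    have h1 := vecMul_mu_dot e φ x₀ 1
    rw [h, zero_dotProduct, mul_one, hex₀, hr.1] at h1
    exact zero_ne_one h1
  have hodd : Odd (Fintype.card F) := Nat.odd_iff.mpr (FiniteField.odd_card_of_char_ne_two
    fun h => h2 (by
      haveI : CharP F 2 := h ▸ ringChar.charP F
      exact CharTwo.two_eq_zero))
  refine (countData e hφ₀).false_of_inv_closed hodd ?_ ?_ ?_
  · obtain ⟨k, hk⟩ := hodd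
    have := Fintype.one_lt_card (α := F)
    omega
  · rw [← QuotientGroup.mk_one, mem_line, vecMul_mu_dot, Units.val_one, mul_one, hex₀, hr.1]
    exact one_ne_zero
  · rintro _ hL ⟨t, ht, rfl⟩
    rw [QuotientGroup.mk'_apply, mem_line, vecMul_mu_dot, mul_comm] at hL
    rw [QuotientGroup.mk'_apply, ← QuotientGroup.mk_inv, mem_line, vecMul_mu_dot, mul_comm]
    set b := e ((t : E) * x₀) with hb
    set χ := φ ᵥ* mu e ((t⁻¹ : Eˣ) : E) with hχ
    have hgg : ∀ x, (g : Matrix (Fin 3) (Fin 3) F) *ᵥ ((g : Matrix (Fin 3) (Fin 3) F) *ᵥ x) = x :=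
      fun x => by rw [mulVec_mulVec, ← Units.val_mul, hg2, Units.val_one, one_mulVec]
    set g' := muU e t * g * (muU e t)⁻¹ with hg'
    have hg'M : g' ∈ M := mul_mem (mul_mem (hT t ht) hgM) (inv_mem (hT t ht))
    have hr' : IsRefl g' b χ := by
      refine ⟨?_, fun x => ?_⟩
      · rw [hχ, hb, vecMul_mu_dot, Units.inv_mul_cancel_left, hex₀, hr.1]
      · obtain ⟨y, rfl⟩ := e.surjective x
        rw [hg', ← map_inv, Units.val_mul, Units.val_mul, ← mulVec_mulVec, ← mulVec_mulVec,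
          muU_mulVec, hr.2, mulVec_add, mulVec_neg, mulVec_smul, muU_mulVec, Units.mul_inv_cancel_left,
          hχ, vecMul_mu_dot, hb]
        rw [← hex₀, muU_mulVec]
    have hgb : (g : Matrix (Fin 3) (Fin 3) F) *ᵥ b = -b := by
      rw [hr.2, hb, hL, mul_zero, zero_smul, add_zero]
    have hr'' : IsRefl (g * g' * g) b (-(χ ᵥ* (g : Matrix (Fin 3) (Fin 3) F))) := by
      refine ⟨?_, fun x => ?_⟩
      · rw [neg_dotProduct, ← dotProduct_mulVec, hgb, dotProduct_neg, neg_neg, hr'.1]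
      · rw [Units.val_mul, Units.val_mul, ← mulVec_mulVec, ← mulVec_mulVec, hr'.2, mulVec_add,
          mulVec_neg, hgg, mulVec_smul, hgb, neg_dotProduct, ← dotProduct_mulVec χ (g : Matrix (Fin 3) (Fin 3) F)]
        module
    have huniq := IsRefl.unique h2 hno (mul_mem (mul_mem hgM hg'M) hgM) hg'M hr'' hr'
    have hga : (g : Matrix (Fin 3) (Fin 3) F) *ᵥ a = a := by rw [hr.2, hr.1]; module
    have h1 := congrArg (fun ψ => ψ ⬝ᵥ a) huniq
    simp only [neg_dotProduct, ← dotProduct_mulVec, hga] at h1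
    have h3 : χ ⬝ᵥ a = 0 := (mul_eq_zero.mp (show (2 : F) * (χ ⬝ᵥ a) = 0 by
      linear_combination -h1)).resolve_left h2
    rw [hχ, ← hex₀, vecMul_mu_dot] at h3
    exact h3

end Cfsg.Agent.SL3Geo70
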