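import Cfsg.Agent.MaxSub.Basic
import Cfsg.Agent.SL3Geo70.Count

/-!
The projective plane in the coordinates of a cubic extension (helper70).

`e` identifies a cubic extension `E` with the space `F³`; a non-zero functional `φ` gives the `q + 1`
points `line e φ` of a line inside the cyclic group `Pt F E`.
-/

set_option autoImplicit false
set_option linter.unusedSectionVars false
set_option linter.style.haveILetI false

namespace Cfsg.Agent.SL3Geo70

open Matrix Cfsg.Agent.MaxSub

variable {F E : Type*} [Field F] [Fintype F] [Field E] [Algebra F E]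

/-- Multiplication by `x` in coordinates. -/
noncomputable def mu (e : E ≃ₗ[F] (Fin 3 → F)) (x : E) : Matrix (Fin 3) (Fin 3) F :=
  LinearMap.toMatrix' (e.toLinearMap ∘ₗ LinearMap.mulLeft F x ∘ₗ e.symm.toLinearMap)

variable (e : E ≃ₗ[F] (Fin 3 → F))

theorem mu_mulVec' (x : E) (v : Fin 3 → F) : mu e x *ᵥ v = e (x * e.symm v) := by
  rw [mu, ← Matrix.toLin'_apply, Matrix.toLin'_toMatrix']
  rfl

theorem mu_mulVec (x y : E) : mu e x *ᵥ e y = e (x * y) := by rw [mu_mulVec', e.symm_apply_apply]

theorem ext_e {A B : Matrix (Fin 3) (Fin 3) F} (h : ∀ y : E, A *ᵥ e y = B *ᵥ e y) : A = B :=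
  Matrix.ext_of_mulVec_single fun i => by
    rw [← e.apply_symm_apply (Pi.single i 1)]
    exact h _

theorem mu_one : mu e (1 : E) = 1 := ext_e e fun y => by rw [mu_mulVec, one_mul, one_mulVec]

theorem mu_mul (x y : E) : mu e (x * y) = mu e x * mu e y :=
  ext_e e fun z => by rw [mu_mulVec, ← mulVec_mulVec, mu_mulVec, mu_mulVec, mul_assoc]

theorem mu_smul (c : F) (x : E) : mu e (c • x) = c • mu e x :=
  ext_e e fun z => by rw [mu_mulVec, smul_mulVec, mu_mulVec, smul_mul_assoc, map_smul]

theorem mu_algebraMap (c : F) : mu e (algebraMap F E c) = c • (1 : Matrix (Fin 3) (Fin 3) F) := by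
  rw [Algebra.algebraMap_eq_smul_one, mu_smul, mu_one]

theorem mu_add (x y : E) : mu e (x + y) = mu e x + mu e y :=
  ext_e e fun z => by rw [mu_mulVec, add_mulVec, mu_mulVec, mu_mulVec, add_mul, map_add]

theorem mu_injective : Function.Injective (mu e) := fun x y h => by
  have := congrArg (fun A => A *ᵥ e 1) h
  simp only [mu_mulVec, mul_one] at this
  exact e.injective this

/-- Multiplication by units in coordinates. -/
noncomputable def muU : Eˣ →* GL (Fin 3) F where
  toFun x := ⟨mu e x, mu e ↑x⁻¹, by rw [← mu_mul, Units.mul_inv, mu_one],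
    by rw [← mu_mul, Units.inv_mul, mu_one]⟩
  map_one' := Units.ext (mu_one e)
  map_mul' x y := Units.ext (mu_mul e x y)

@[simp] theorem muU_coe (x : Eˣ) : (muU e x : Matrix (Fin 3) (Fin 3) F) = mu e x := rfl

theorem muU_mulVec (x : Eˣ) (y : E) :
    (muU e x : Matrix (Fin 3) (Fin 3) F) *ᵥ e y = e (x * y) := mu_mulVec e x y

include e in
theorem finrank_E : Module.finrank F E = 3 := by rw [e.finrank_eq, Module.finrank_fin_fun]

include e in
theorem finite_E : Finite E := Finite.of_injective e e.injective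

include e in
theorem natCard_E : Nat.card E = Fintype.card F ^ 3 := by
  rw [Nat.card_congr e.toEquiv, Nat.card_eq_fintype_card, Fintype.card_fun, Fintype.card_fin]

variable (F E) in
/-- The non-zero scalars. -/
abbrev scal : Subgroup Eˣ := (Units.map ((algebraMap F E : F →+* E) : F →* E)).range

variable (F E) in
/-- The points of the plane, as a group. -/
abbrev Pt : Type _ := Eˣ ⧸ scal F E

/-- The points form a commutative group (a shortcut for instance search). -/
noncomputable instance (priority := high) ptCommGroup : CommGroup (Pt F E) :=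
  QuotientGroup.Quotient.commGroup (scal F E)

theorem natCard_scal : Nat.card (scal F E) = Fintype.card F - 1 := by
  classical
  rw [scal, ← Fintype.card_units, ← Nat.card_eq_fintype_card]
  exact (Nat.card_congr (MonoidHom.ofInjective (Units.map_injective
    (show Function.Injective ((algebraMap F E : F →+* E) : F →* E) from
      (algebraMap F E).injective))).toEquiv).symm

theorem pt_eq_iff {x y : Eˣ} :
    (QuotientGroup.mk x : Pt F E) = QuotientGroup.mk y ↔ ∃ c : F, c ≠ 0 ∧ (y : E) = c • (x : E) := by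
  rw [QuotientGroup.eq]
  constructor
  · rintro ⟨c, hc⟩
    refine ⟨c, c.ne_zero, ?_⟩
    have h := congrArg (fun u : Eˣ => (u : E)) (mul_inv_eq_iff_eq_mul.mp (show x⁻¹ * y * 1⁻¹ = _ by
      rw [inv_one, mul_one, ← hc]))
    simp only [Units.coe_map, MonoidHom.coe_coe, Units.val_mul, mul_one] at h
    rw [Algebra.smul_def, ← h]
    field_simp
    simp
  · rintro ⟨c, hc, h⟩
    refine ⟨Units.mk0 c hc, Units.ext ?_⟩
    simp [h, Algebra.smul_def]
    field_simp

/-- The units on the plane of a functional. -/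
def onPlane (φ : Fin 3 → F) : Set Eˣ := {x | φ ⬝ᵥ e x = 0}

open Classical in
/-- The points on the line of a functional. -/
noncomputable def line [Fintype (Pt F E)] (φ : Fin 3 → F) : Finset (Pt F E) :=
  Finset.univ.filter fun γ => ∃ x ∈ onPlane e φ, (QuotientGroup.mk x : Pt F E) = γ

variable [Fintype (Pt F E)]

theorem mem_line {φ : Fin 3 → F} {x : Eˣ} :
    (QuotientGroup.mk x : Pt F E) ∈ line e φ ↔ φ ⬝ᵥ e x = 0 := by
  classical
  rw [line, Finset.mem_filter, and_iff_right (Finset.mem_univ _)]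
  refine ⟨?_, fun h => ⟨x, h, rfl⟩⟩
  rintro ⟨y, hy, hyx⟩
  obtain ⟨c, -, hc⟩ := pt_eq_iff.mp hyx
  rw [hc, map_smul, dotProduct_smul, show φ ⬝ᵥ e y = 0 from hy, smul_zero]

/-- The functional of a translated line. -/
theorem vecMul_mu_dot (φ : Fin 3 → F) (x y : E) : (φ ᵥ* mu e x) ⬝ᵥ e y = φ ⬝ᵥ e (x * y) := by
  rw [← dotProduct_mulVec, mu_mulVec]

theorem mem_line_translate {φ : Fin 3 → F} {x : Eˣ} {γ : Pt F E} :
    γ ∈ line e (φ ᵥ* mu e x) ↔ (QuotientGroup.mk x : Pt F E) * γ ∈ line e φ := by
  obtain ⟨y, rfl⟩ := QuotientGroup.mk_surjective γ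
  rw [← QuotientGroup.mk_mul, mem_line, mem_line, vecMul_mu_dot, Units.val_mul]

/-- The functional as a linear map on `E`. -/
noncomputable def dotE (φ : Fin 3 → F) : E →ₗ[F] F where
  toFun x := φ ⬝ᵥ e x
  map_add' a b := by rw [map_add, dotProduct_add]
  map_smul' c a := by rw [map_smul, dotProduct_smul, RingHom.id_apply]

theorem finrank_ker_dotE {φ : Fin 3 → F} (hφ : φ ≠ 0) :
    Module.finrank F (LinearMap.ker (dotE e φ)) = 2 := by
  haveI : FiniteDimensional F E := e.symm.finiteDimensional
  obtain ⟨x, hx⟩ := exists_dotProduct_ne_zero hφ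
  have hsurj : Function.Surjective (dotE e φ) := fun c =>
    ⟨(c / (φ ⬝ᵥ x)) • e.symm x, by
      show φ ⬝ᵥ e _ = c
      rw [map_smul, e.apply_symm_apply, dotProduct_smul, smul_eq_mul, div_mul_cancel₀ c hx]⟩
  have h := (dotE e φ).finrank_range_add_finrank_ker
  rw [LinearMap.range_eq_top.mpr hsurj, finrank_top, Module.finrank_self, finrank_E e] at h
  omega

theorem card_line {φ : Fin 3 → F} (hφ : φ ≠ 0) : (line e φ).card = Fintype.card F + 1 := by
  classical
  haveI := finite_E e
  have h1 : Nat.card (onPlane e φ) + 1 = Fintype.card F ^ 2 := by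
    haveI : FiniteDimensional F E := e.symm.finiteDimensional
    haveI := Fintype.ofFinite (LinearMap.ker (dotE e φ))
    have hc : Fintype.card (LinearMap.ker (dotE e φ)) = Fintype.card F ^ 2 := by
      rw [Module.card_eq_pow_finrank (K := F), finrank_ker_dotE e hφ]
    let f : onPlane e φ ≃ {y : LinearMap.ker (dotE e φ) // y ≠ 0} :=
      { toFun := fun x => ⟨⟨(x : Eˣ), x.2⟩, fun h => (x : Eˣ).ne_zero (congrArg Subtype.val h)⟩
        invFun := fun y => ⟨Units.mk0 (y : E) fun h => y.2 (Subtype.ext h), y.1.2⟩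
        left_inv := fun x => Subtype.ext (Units.ext rfl)
        right_inv := fun y => rfl }
    rw [Nat.card_congr f, Nat.card_eq_fintype_card, Fintype.card_subtype_compl,
      Fintype.card_subtype_eq, hc]
    have : 1 ≤ Fintype.card F ^ 2 := Nat.one_le_pow _ _ Fintype.card_pos
    omega
  have h2 : Nat.card (onPlane e φ) = Nat.card (scal F E) * (line e φ).card := by
    have hpre : (QuotientGroup.mk : Eˣ → Pt F E) ⁻¹' (line e φ : Set (Pt F E)) = onPlane e φ := by
      ext x
      rw [Set.mem_preimage, Finset.mem_coe, mem_line]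
      rfl
    rw [← hpre, Nat.card_congr (QuotientGroup.preimageMkEquivSubgroupProdSet _ _), Nat.card_prod,
      Nat.card_coe_set_eq, Set.ncard_coe_finset]
  rw [natCard_scal] at h2
  rw [h2] at h1
  obtain ⟨r, hr⟩ : ∃ r, Fintype.card F = r + 2 :=
    ⟨Fintype.card F - 2, by have := Fintype.one_lt_card (α := F); omega⟩
  rw [hr] at h1 ⊢
  simp only [Nat.add_succ_sub_one] at h1
  refine Nat.eq_of_mul_eq_mul_left (show 0 < r + 1 by omega) ?_
  nlinarith [h1]

include e in
theorem natCard_pt : Nat.card (Pt F E) = Fintype.card F ^ 2 + Fintype.card F + 1 := by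
  classical
  haveI := finite_E e
  have h := Subgroup.card_eq_card_quotient_mul_card_subgroup (scal F E)
  rw [Nat.card_units, natCard_E e, natCard_scal] at h
  obtain ⟨r, hr⟩ : ∃ r, Fintype.card F = r + 2 :=
    ⟨Fintype.card F - 2, by have := Fintype.one_lt_card (α := F); omega⟩
  rw [hr] at h ⊢
  simp only [Nat.add_succ_sub_one] at h
  change (r + 2) ^ 3 - 1 = Nat.card (Pt F E) * (r + 1) at h
  have h' : (r + 2) ^ 3 = Nat.card (Pt F E) * (r + 1) + 1 := by
    have : 1 ≤ (r + 2) ^ 3 := Nat.one_le_pow _ _ (by omega)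
    omega
  refine Nat.eq_of_mul_eq_mul_right (show 0 < r + 1 by omega) ?_
  nlinarith [h']

include e in
/-- An element outside the scalars generates. -/
theorem adjoin_eq_top {x : E} (hx : ∀ c : F, algebraMap F E c ≠ x) :
    Algebra.adjoin F ({x} : Set E) = ⊤ := by
  haveI : FiniteDimensional F E := e.symm.finiteDimensional
  haveI := Subalgebra.isSimpleOrder_of_finrank_prime F E (by rw [finrank_E e]; norm_num)
  refine (IsSimpleOrder.eq_bot_or_eq_top _).resolve_left fun h => ?_
  have hm : x ∈ Algebra.adjoin F ({x} : Set E) := Algebra.self_mem_adjoin_singleton F x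
  rw [h, Algebra.mem_bot] at hm
  obtain ⟨c, hc⟩ := hm
  exact hx c hc

/-- Two translations of a pair of points of a line by the same non-trivial amount coincide. -/
theorem line_diff {φ : Fin 3 → F} (hφ : φ ≠ 0) :
    ∀ a ∈ line e φ, ∀ b ∈ line e φ, ∀ c ∈ line e φ, ∀ d ∈ line e φ,
      a * b⁻¹ = c * d⁻¹ → a ≠ b → a = c := by
  haveI : FiniteDimensional F E := e.symm.finiteDimensional
  intro a ha b hb c hc d hd h hab
  obtain ⟨y, rfl⟩ := QuotientGroup.mk_surjective b
  obtain ⟨w, rfl⟩ := QuotientGroup.mk_surjective d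
  obtain ⟨g, hg⟩ := QuotientGroup.mk_surjective (a * (QuotientGroup.mk y : Pt F E)⁻¹)
  have ha' : a = QuotientGroup.mk (g * y) := by rw [QuotientGroup.mk_mul, hg, inv_mul_cancel_right]
  have hc' : c = QuotientGroup.mk (g * w) := by
    rw [QuotientGroup.mk_mul, hg, h, inv_mul_cancel_right]
  subst ha' hc'
  rw [mem_line, Units.val_mul] at ha hc
  rw [mem_line] at hb hd
  have hg1 : ∀ r : F, algebraMap F E r ≠ (g : E) := by
    intro r hr
    refine hab (pt_eq_iff.mpr ⟨r⁻¹, inv_ne_zero fun h0 => g.ne_zero ?_, ?_⟩)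
    · rw [← hr, h0, map_zero]
    · rw [Units.val_mul, ← hr, ← Algebra.smul_def, smul_smul, inv_mul_cancel₀, one_smul]
      intro h0
      exact g.ne_zero (by rw [← hr, h0, map_zero])
  by_cases hdep : ∃ r : F, (w : E) = r • (y : E)
  · obtain ⟨r, hr⟩ := hdep
    refine pt_eq_iff.mpr ⟨r, fun h0 => w.ne_zero (by rw [hr, h0, zero_smul]), ?_⟩
    rw [Units.val_mul, Units.val_mul, hr, mul_smul_comm]
  · exfalso
    push Not at hdep
    set W := LinearMap.ker (dotE e φ) with hW
    have hli : LinearIndependent F ![(y : E), (w : E)] := by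
      rw [LinearIndependent.pair_iff' y.ne_zero]
      exact fun r hr => hdep r hr.symm
    have hspan : Submodule.span F (Set.range ![(y : E), (w : E)]) = W := by
      refine Submodule.eq_of_le_of_finrank_eq ?_ ?_
      · rw [Submodule.span_le]
        rintro _ ⟨i, rfl⟩
        fin_cases i <;> [exact hb; exact hd]
      · rw [finrank_span_eq_card hli, hW, finrank_ker_dotE e hφ, Fintype.card_fin]
    let S : Subalgebra F E :=
      { carrier := {δ | ∀ z ∈ W, δ * z ∈ W}
        mul_mem' := fun {p r} hp hr z hz => by rw [mul_assoc]; exact hp _ (hr z hz)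
        add_mem' := fun {p r} hp hr z hz => by rw [add_mul]; exact W.add_mem (hp z hz) (hr z hz)
        algebraMap_mem' := fun r z hz => by rw [← Algebra.smul_def]; exact W.smul_mem r hz }
    have hgS : (g : E) ∈ S := by
      intro z hz
      rw [← hspan] at hz ⊢
      induction hz using Submodule.span_induction with
      | mem z hz =>
        obtain ⟨i, rfl⟩ := hz
        rw [hspan]
        fin_cases i <;> [exact ha; exact hc]
      | zero => simp
      | add z z' _ _ h1 h2 => rw [mul_add]; exact add_mem h1 h2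
      | smul r z _ h1 => rw [mul_smul_comm]; exact Submodule.smul_mem _ r h1
    have hS : S = ⊤ := top_le_iff.mp ((adjoin_eq_top e hg1).ge.trans
      (Algebra.adjoin_le (Set.singleton_subset_iff.mpr hgS)))
    have hall : ∀ z : E, φ ⬝ᵥ e z = 0 := fun z => by
      have hz : z * (y : E)⁻¹ ∈ S := hS ▸ Algebra.mem_top
      have h1 := hz (y : E) hb
      rw [mul_assoc, inv_mul_cancel₀ y.ne_zero, mul_one] at h1
      exact h1
    obtain ⟨x, hx⟩ := exists_dotProduct_ne_zero hφ
    exact hx (by rw [← e.apply_symm_apply x]; exact hall _)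

/-- The units of determinant one. -/
noncomputable def torus : Subgroup Eˣ := (Matrix.GeneralLinearGroup.det.comp (muU e)).ker

/-- Their image among the points. -/
noncomputable def torusPt : @Subgroup (Pt F E) CommGroup.toGroup :=
  (torus e).map (QuotientGroup.mk' (scal F E))

theorem mem_torus {x : Eˣ} : x ∈ torus e ↔ (mu e x).det = 1 := by
  rw [torus, MonoidHom.mem_ker, Units.ext_iff]
  rfl

theorem cube_mem (γ : Pt F E) : γ ^ 3 ∈ torusPt e := by
  obtain ⟨x, rfl⟩ := QuotientGroup.mk_surjective γ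
  set d : Fˣ := Matrix.GeneralLinearGroup.det (muU e x) with hd
  refine ⟨Units.map ((algebraMap F E : F →+* E) : F →* E) d⁻¹ * x ^ 3, ?_, ?_⟩
  · show _ ∈ torus e
    rw [mem_torus, Units.val_mul, Units.val_pow_eq_pow_val, Units.coe_map, MonoidHom.coe_coe,
      ← Algebra.smul_def, mu_smul, Matrix.det_smul, Fintype.card_fin]
    have h1 : (mu e ((x : E) ^ 3)).det = (d : F) ^ 3 := by
      rw [pow_three, pow_three, mu_mul, mu_mul, Matrix.det_mul, Matrix.det_mul]
      rfl
    rw [h1, ← mul_pow, ← Units.val_mul, inv_mul_cancel, Units.val_one, one_pow]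
  · rw [map_mul, map_pow]
    have : (QuotientGroup.mk' (scal F E)) (Units.map ((algebraMap F E : F →+* E) : F →* E) d⁻¹) = 1 :=
      (QuotientGroup.eq_one_iff _).mpr ⟨_, rfl⟩
    rw [this]
    exact one_mul ((QuotientGroup.mk x : Pt F E) ^ 3)

theorem countData {φ : Fin 3 → F} (hφ : φ ≠ 0) :
    CountData (Fintype.card F) (torusPt e) (line e φ) := by
  haveI := finite_E e
  refine ⟨natCard_pt e, ?_, card_line e hφ, line_diff e hφ, cube_mem e⟩
  exact isCyclic_of_surjective (QuotientGroup.mk' (scal F E)) (QuotientGroup.mk'_surjective _)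

/-- Points in one class differ by an element of determinant one and a scalar. -/
theorem cls_eq_iff {x y : Eˣ} :
    (QuotientGroup.mk (QuotientGroup.mk x : Pt F E) : Pt F E ⧸ torusPt e) =
      QuotientGroup.mk (QuotientGroup.mk y : Pt F E) ↔
      ∃ t ∈ torus e, ∃ c : F, c ≠ 0 ∧ (y : E) = c • ((t : E) * (x : E)) := by
  rw [QuotientGroup.eq, ← QuotientGroup.mk_inv, ← QuotientGroup.mk_mul]
  constructor
  · rintro ⟨t, ht, htx⟩
    obtain ⟨c, hc, h⟩ := pt_eq_iff.mp (show (QuotientGroup.mk t : Pt F E) = _ from htx)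
    refine ⟨t, ht, c, hc, ?_⟩
    rw [Units.val_mul] at h
    rw [← smul_mul_assoc, ← h]
    field_simp
    simp
  · rintro ⟨t, ht, c, hc, h⟩
    refine ⟨t, ht, pt_eq_iff.mpr ⟨c, hc, ?_⟩⟩
    rw [Units.val_mul, h, mul_smul_comm, ← mul_assoc, mul_comm ((x⁻¹ : Eˣ) : E), mul_assoc,
      Units.inv_mul, mul_one]

end Cfsg.Agent.SL3Geo70
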