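import Cfsg.Agent.SL3Geo70.Model

/-!
An invariant set of transvection centres of a group containing a Singer torus is everything (helper70).

Counting modulo the characteristic on the lines through one centre.
-/

set_option autoImplicit false
set_option linter.unusedSectionVars false
set_option linter.style.haveILetI false

namespace Cfsg.Agent.SL3Geo70

open Matrix Cfsg.Agent.MaxSub

variable {F E : Type*} [Field F] [Fintype F] [Field E] [Algebra F E]
variable (e : E ≃ₗ[F] (Fin 3 → F)) [Fintype (Pt F E)]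

/-- A functional vanishing on the kernel of another one is a multiple of it. -/
theorem eq_smul_of_ker {φ ψ : Fin 3 → F} (hφ : φ ≠ 0)
    (h : ∀ x, φ ⬝ᵥ x = 0 → ψ ⬝ᵥ x = 0) : ∃ c : F, ψ = c • φ := by
  obtain ⟨x, hx⟩ := exists_dotProduct_ne_zero hφ
  refine ⟨(ψ ⬝ᵥ x) / (φ ⬝ᵥ x), dotProduct_eq _ _ fun y => ?_⟩
  have h1 := h (y - ((φ ⬝ᵥ y) / (φ ⬝ᵥ x)) • x)
    (by rw [dotProduct_sub, dotProduct_smul, smul_eq_mul, div_mul_cancel₀ _ hx, sub_self])
  rw [dotProduct_sub, dotProduct_smul, smul_eq_mul, sub_eq_zero] at h1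
  rw [smul_dotProduct, smul_eq_mul, h1]
  ring

/-- Two independent axes at a centre. -/
def TwoAx (M : Subgroup (GL (Fin 3) F)) (v : Fin 3 → F) : Prop :=
  ∃ φ ∈ dualSet M v, ∃ ψ ∈ dualSet M v, φ ≠ 0 ∧ ∀ c : F, ψ ≠ c • φ

variable {M : Subgroup (GL (Fin 3) F)}

theorem TwoAx.ne_zero_right {φ ψ : Fin 3 → F}
    (h : ∀ c : F, ψ ≠ c • φ) : ψ ≠ 0 := fun h0 => h 0 (by rw [h0, zero_smul])

/-- A set of non-zero vectors which is a union of points and is invariant. -/
structure Closed (M : Subgroup (GL (Fin 3) F)) (C : Set (Fin 3 → F)) : Prop where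
  ne_zero : ∀ v ∈ C, v ≠ 0
  smul : ∀ c : F, c ≠ 0 → ∀ v ∈ C, c • v ∈ C
  inv : ∀ g ∈ M, ∀ v ∈ C, (g : Matrix (Fin 3) (Fin 3) F) *ᵥ v ∈ C

/-- The points of a set of vectors. -/
def ptsOf (C : Set (Fin 3 → F)) : Set (Pt F E) :=
  {γ | ∀ y : Eˣ, (QuotientGroup.mk y : Pt F E) = γ → e y ∈ C}

theorem mk_mem_ptsOf {C : Set (Fin 3 → F)} (hC : Closed M C) (y : Eˣ) :
    (QuotientGroup.mk y : Pt F E) ∈ ptsOf e C ↔ e y ∈ C := by
  refine ⟨fun h => h y rfl, fun h z hz => ?_⟩
  obtain ⟨c, hc, hcz⟩ := pt_eq_iff.mp hz.symm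
  rw [hcz, map_smul]
  exact hC.smul c hc _ h

theorem line_eq_of_subset {φ χ : Fin 3 → F} (hφ : φ ≠ 0) (hχ : χ ≠ 0)
    (h : line e χ ⊆ line e φ) : line e χ = line e φ :=
  Finset.eq_of_subset_of_card_le h (by rw [card_line e hφ, card_line e hχ])

open Classical in
/-- The points of `C` on a line through a centre in `C`. -/
theorem line_mod {C : Set (Fin 3 → F)} (hC : Closed M C) {x₀ : Eˣ} (hx₀ : e x₀ ∈ C)
    {χ : Fin 3 → F} (hχ : χ ≠ 0) (hχx : χ ⬝ᵥ e x₀ = 0) (X : AddSubgroup (Fin 3 → F))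
    (hX : X ≤ dualSet M (e x₀)) (hinj : ∀ φ ∈ X, φ ≠ 0 → line e φ ≠ line e χ) :
    ∃ r, ((line e χ).filter fun γ => γ ∈ ptsOf e C).card = 1 + Nat.card X * r := by
  set P₀ : Pt F E := QuotientGroup.mk x₀ with hP₀
  have hmem₀ : P₀ ∈ line e χ := (mem_line e).mpr hχx
  obtain ⟨P₁, hP₁, hne⟩ := Finset.exists_mem_ne (s := line e χ)
    (by rw [card_line e hχ]; have := Fintype.one_lt_card (α := F); omega) P₀
  obtain ⟨y, rfl⟩ := QuotientGroup.mk_surjective P₁
  rw [mem_line] at hP₁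
  have hindep : ∀ a b : F, a • (y : E) + b • (x₀ : E) = 0 → a = 0 := fun a b h => by
    by_contra ha
    have hyx : (y : E) = (-(b / a)) • (x₀ : E) := by
      have := congrArg (fun z => a⁻¹ • z) (eq_neg_of_add_eq_zero_left h)
      simp only [smul_smul, inv_mul_cancel₀ ha, one_smul, smul_neg] at this
      rw [this, neg_smul, div_eq_inv_mul]
    refine hne (pt_eq_iff.mpr ⟨-(b / a), fun h0 => y.ne_zero (by rw [hyx, h0, zero_smul]), hyx⟩).symm
  have hyr : ∀ r : F, (y : E) + r • (x₀ : E) ≠ 0 := fun r h =>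
    one_ne_zero (hindep 1 r (by rwa [one_smul]))
  let f : Option F → Pt F E := fun o =>
    o.elim P₀ fun r => QuotientGroup.mk (Units.mk0 _ (hyr r))
  have hf : Function.Injective f := by
    rintro (_ | r) (_ | r') h
    · rfl
    · obtain ⟨c, -, hc⟩ := pt_eq_iff.mp h
      rw [Units.val_mk0] at hc
      refine absurd (hindep 1 (r' - c) ?_) one_ne_zero
      rw [sub_smul, one_smul, ← add_sub_assoc, hc, sub_self]
    · obtain ⟨c, -, hc⟩ := pt_eq_iff.mp h.symm
      rw [Units.val_mk0] at hc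
      refine absurd (hindep 1 (r - c) ?_) one_ne_zero
      rw [sub_smul, one_smul, ← add_sub_assoc, hc, sub_self]
    · obtain ⟨c, -, hc⟩ := pt_eq_iff.mp h
      rw [Units.val_mk0, Units.val_mk0] at hc
      have h1 : c = 1 := (sub_eq_zero.mp (hindep (1 - c) (r' - c * r) (by
        rw [smul_add, smul_smul] at hc
        rw [sub_smul, sub_smul, one_smul, sub_add_sub_comm, hc, sub_self]))).symm
      rw [h1, one_smul] at hc
      have h3 : (r' - r) • (x₀ : E) = 0 := by
        rw [sub_smul, sub_eq_zero]; exact add_left_cancel hc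
      exact congrArg some (sub_eq_zero.mp ((smul_eq_zero.mp h3).resolve_right x₀.ne_zero)).symm
  have himg : Finset.univ.image f = line e χ := by
    refine Finset.eq_of_subset_of_card_le (fun γ hγ => ?_) ?_
    · obtain ⟨o, -, rfl⟩ := Finset.mem_image.mp hγ
      rcases o with _ | r
      · exact hmem₀
      · refine (mem_line e).mpr ?_
        rw [Units.val_mk0, map_add, map_smul, dotProduct_add, dotProduct_smul, hP₁, hχx, smul_zero,
          add_zero]
    · rw [Finset.card_image_of_injective _ hf, Finset.card_univ, Fintype.card_option,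
        card_line e hχ]
  set R : Set F := {r | e y + r • e x₀ ∈ C} with hR
  have hcount : ((line e χ).filter fun γ => γ ∈ ptsOf e C).card = 1 + Nat.card R := by
    rw [← himg, Finset.filter_image, Finset.card_image_of_injective _ hf]
    have hsplit : (Finset.univ.filter fun o : Option F => f o ∈ ptsOf e C) =
        Finset.insertNone (Finset.univ.filter fun r : F => r ∈ R) := by
      ext o
      rcases o with _ | r
      · simp only [Finset.mem_filter, Finset.mem_univ, true_and, Finset.none_mem_insertNone, iff_true]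
        exact (mk_mem_ptsOf e hC x₀).mpr hx₀
      · simp only [Finset.mem_filter, Finset.mem_univ, true_and, Finset.some_mem_insertNone]
        show QuotientGroup.mk _ ∈ ptsOf e C ↔ _
        rw [mk_mem_ptsOf e hC, hR, Set.mem_setOf_eq, Units.val_mk0, map_add, map_smul]
    rw [hsplit, Finset.card_insertNone, add_comm, Nat.card_eq_fintype_card, Fintype.card_subtype]
  -- the translations
  let ev : (Fin 3 → F) →+ F := AddMonoidHom.mk' (fun φ => φ ⬝ᵥ e y) fun a b => add_dotProduct a b _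
  set A : AddSubgroup F := X.map ev with hA
  have hXA : Nat.card X = Nat.card A := by
    refine Nat.card_congr (AddEquiv.ofBijective (ev.addSubgroupMap X) ⟨?_,
      ev.addSubgroupMap_surjective X⟩).toEquiv
    refine (injective_iff_map_eq_zero _).mpr fun φ h => ?_
    have h0 : (φ : Fin 3 → F) ⬝ᵥ e y = 0 := congrArg Subtype.val h
    by_contra hφ
    have hφ0 : (φ : Fin 3 → F) ≠ 0 := fun h' => hφ (Subtype.ext h')
    refine hinj φ φ.2 hφ0 (line_eq_of_subset e hφ0 hχ ?_).symm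
    rw [← himg]
    intro γ hγ
    obtain ⟨o, -, rfl⟩ := Finset.mem_image.mp hγ
    rcases o with _ | r
    · exact (mem_line e).mpr (hX φ.2).1
    · refine (mem_line e).mpr ?_
      rw [Units.val_mk0, map_add, map_smul, dotProduct_add, dotProduct_smul, h0, (hX φ.2).1,
        smul_zero, add_zero]
  have hinv : ∀ a ∈ A, ∀ r ∈ R, r + a ∈ R := by
    rintro _ ⟨φ, hφ, rfl⟩ r hr
    obtain ⟨hφ0, hφM⟩ := hX hφ
    have h := hC.inv _ hφM _ hr
    rw [tv_mulVec hφ0, dotProduct_add, dotProduct_smul, hφ0, smul_zero, add_zero, add_assoc,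
      ← add_smul] at h
    exact h
  have hpre : (QuotientAddGroup.mk : F → F ⧸ A) ⁻¹' (QuotientAddGroup.mk '' R) = R := by
    refine subset_antisymm (fun r hr => ?_) (Set.subset_preimage_image _ _)
    obtain ⟨s, hs, hsr⟩ := hr
    have := hinv _ (QuotientAddGroup.eq.mp hsr) s hs
    simpa using this
  refine ⟨Nat.card (QuotientAddGroup.mk '' R : Set (F ⧸ A)), ?_⟩
  rw [hcount, hXA, ← Nat.card_prod,
    ← Nat.card_congr (QuotientAddGroup.preimageMkEquivAddSubgroupProdSet _ _), hpre]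

theorem cancel_left₁ {G : Type*} [CommGroup G] (a x δ : G) : a * x⁻¹ * (a⁻¹ * x * δ) = δ := by
  rw [← mul_assoc, show a * x⁻¹ * (a⁻¹ * x) = (a * a⁻¹) * (x⁻¹ * x) from mul_mul_mul_comm _ _ _ _,
    mul_inv_cancel, inv_mul_cancel, one_mul, one_mul]

theorem cancel_left₂ {G : Type*} [CommGroup G] (a b x δ : G) :
    b * x⁻¹ * (a⁻¹ * x * δ) = b * a⁻¹ * δ := by
  rw [← mul_assoc, show b * x⁻¹ * (a⁻¹ * x) = (b * a⁻¹) * (x⁻¹ * x) from mul_mul_mul_comm _ _ _ _,
    inv_mul_cancel, mul_one]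

set_option maxHeartbeats 1600000 in
open Classical in
/-- The count on the lines through a centre, in terms of classes. -/
theorem key_count {C : Set (Fin 3 → F)} (hC : Closed M C) {x₀ : Eˣ} (hx₀C : e x₀ ∈ C)
    {Cc : Set (Pt F E ⧸ torusPt e)}
    (hcls : ∀ γ : Pt F E, (QuotientGroup.mk γ : Pt F E ⧸ torusPt e) ∈ Cc ↔ γ ∈ ptsOf e C)
    {ψ : Fin 3 → F} (hψ : ψ ≠ 0) (c : Pt F E ⧸ torusPt e) (X : AddSubgroup (Fin 3 → F))
    (B : Finset (Finset (Pt F E))) (hXd : X ≤ dualSet M (e x₀))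
    (hBc : B.card < cls (torusPt e) (line e ψ) c) (hB : ∀ φ ∈ X, φ ≠ 0 → line e φ ∈ B) :
    ∃ r, CountData.cnt (torusPt e) (line e ψ) Cc
      (QuotientGroup.mk (QuotientGroup.mk x₀ : Pt F E)) c = 1 + Nat.card X * r := by
  set k : Pt F E ⧸ torusPt e := QuotientGroup.mk (QuotientGroup.mk x₀ : Pt F E) with hk
  have hrep : ∀ γ : Pt F E, ∃ w : Eˣ, (QuotientGroup.mk w : Pt F E) = γ :=
    QuotientGroup.mk_surjective
  choose w hw using hrep
  let χ : Pt F E → (Fin 3 → F) := fun γ => ψ ᵥ* mu e ((w γ * x₀⁻¹ : Eˣ) : E)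
  have hχ : ∀ γ δ, δ ∈ line e (χ γ) ↔ γ * (QuotientGroup.mk x₀ : Pt F E)⁻¹ * δ ∈ line e ψ := fun γ δ => by
    rw [mem_line_translate, QuotientGroup.mk_mul, hw, QuotientGroup.mk_inv]
  have hχ0 : ∀ γ, χ γ ≠ 0 := fun γ h => by
    refine hψ (dotProduct_eq_zero _ fun z => ?_)
    have h1 := vecMul_mu_dot e ψ ((w γ * x₀⁻¹ : Eˣ) : E) (((w γ * x₀⁻¹)⁻¹ : Eˣ) * e.symm z)
    rw [show ψ ᵥ* mu e ((w γ * x₀⁻¹ : Eˣ) : E) = 0 from h, zero_dotProduct, ← mul_assoc,
      Units.mul_inv, one_mul, e.apply_symm_apply] at h1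
    exact h1.symm
  set S := (line e ψ).filter fun γ : Pt F E => (QuotientGroup.mk γ : Pt F E ⧸ torusPt e) = c with hS
  have hinj : Set.InjOn (fun γ => line e (χ γ)) S := by
    intro a ha b hb h
    by_contra hne
    have h : line e (χ a) = line e (χ b) := h
    have hstable : ∀ δ ∈ line e ψ, b * a⁻¹ * δ ∈ line e ψ := fun δ hδ => by
      have h1 : a⁻¹ * (QuotientGroup.mk x₀ : Pt F E) * δ ∈ line e (χ a) := by
        rw [hχ]; rwa [cancel_left₁]
      rw [h, hχ] at h1
      rwa [cancel_left₂] at h1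
    obtain ⟨d₁, hd₁, d₂, hd₂, hd⟩ := Finset.one_lt_card.mp
      (show 1 < (line e ψ).card by rw [card_line e hψ]; have := Fintype.one_lt_card (α := F); omega)
    have h2 := line_diff e hψ _ (hstable d₁ hd₁) d₁ hd₁ _ (hstable d₂ hd₂) d₂ hd₂
      (by rw [mul_inv_cancel_right, mul_inv_cancel_right]) (fun h' => hne (by
        have h3 : b * a⁻¹ = 1 := mul_eq_right.mp h'
        exact (mul_inv_eq_one.mp h3).symm))
    exact hd (mul_left_cancel h2)
  obtain ⟨γ, hγS, hγB⟩ : ∃ γ ∈ S, line e (χ γ) ∉ B := by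
    by_contra hcon
    push Not at hcon
    exact absurd (Finset.card_le_card_of_injOn _ hcon hinj) (not_le.mpr hBc)
  rw [hS, Finset.mem_filter] at hγS
  have hχx : χ γ ⬝ᵥ e (x₀ : E) = 0 := by
    rw [← mem_line e, hχ, inv_mul_cancel_right]
    exact hγS.1
  obtain ⟨r, hr⟩ := line_mod e hC hx₀C (hχ0 γ) hχx X hXd
    (fun φ hφ hφ0 h => hγB (h ▸ hB φ hφ hφ0))
  refine ⟨r, ?_⟩
  rw [← hr, CountData.cnt]
  refine Finset.card_nbij' (fun l => (QuotientGroup.mk x₀ : Pt F E) * γ⁻¹ * l)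
    (fun δ => γ * (QuotientGroup.mk x₀ : Pt F E)⁻¹ * δ) ?_ ?_ ?_ ?_
  · intro l hl
    simp only [Finset.mem_coe, Finset.mem_filter] at hl ⊢
    refine ⟨(hχ _ _).mpr ?_, (hcls _).mp ?_⟩
    · convert hl.1 using 1; group
    · convert hl.2 using 1
      rw [QuotientGroup.mk_mul, QuotientGroup.mk_mul, QuotientGroup.mk_inv, hγS.2]
  · intro δ hδ
    simp only [Finset.mem_coe, Finset.mem_filter] at hδ ⊢
    refine ⟨(hχ _ _).mp hδ.1, ?_⟩
    convert (hcls δ).mpr hδ.2 using 1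
    rw [QuotientGroup.mk_mul, QuotientGroup.mk_mul, QuotientGroup.mk_inv, hγS.2, hk]
    group
  · intro l _; group
  · intro δ _; group

set_option maxHeartbeats 3000000 in
open Classical in
/-- An invariant set of centres is the whole plane. -/
theorem all_points (hq4 : Fintype.card F ≠ 4) (hT : ∀ t ∈ torus e, muU e t ∈ M)
    {C : Set (Fin 3 → F)} (hC : Closed M C) (hne : C.Nonempty)
    (hX : ∀ v ∈ C, ∃ φ ∈ dualSet M v, φ ≠ 0)
    (h2 : (2 : F) = 0 → ∀ v ∈ C, TwoAx M v) : ∀ v : Fin 3 → F, v ≠ 0 → v ∈ C := by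
  obtain ⟨p, hp⟩ := CharP.exists F
  haveI := hp
  haveI : Fact p.Prime := ⟨CharP.char_is_prime F p⟩
  obtain ⟨n, -, hn⟩ := FiniteField.card F p
  intro v hv
  by_contra hvC
  obtain ⟨v₀, hv₀⟩ := hne
  set y : Eˣ := Units.mk0 (e.symm v) (by simpa using hv) with hy
  set x₀ : Eˣ := Units.mk0 (e.symm v₀) (by simpa using hC.ne_zero v₀ hv₀) with hx₀
  have hex₀ : e (x₀ : E) = v₀ := e.apply_symm_apply v₀
  set Cc : Set (Pt F E ⧸ torusPt e) := (fun γ : Pt F E => (QuotientGroup.mk γ : Pt F E ⧸ torusPt e)) '' ptsOf e C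
    with hCc
  have hcls : ∀ γ : Pt F E, (QuotientGroup.mk γ : Pt F E ⧸ torusPt e) ∈ Cc ↔ γ ∈ ptsOf e C := by
    intro γ
    refine ⟨?_, fun h => ⟨γ, h, rfl⟩⟩
    rintro ⟨δ, hδ, hδγ⟩
    obtain ⟨z, rfl⟩ := QuotientGroup.mk_surjective γ
    obtain ⟨w, rfl⟩ := QuotientGroup.mk_surjective δ
    obtain ⟨t, ht, c, hc, htw⟩ := (cls_eq_iff e).mp hδγ
    rw [mk_mem_ptsOf e hC] at hδ ⊢
    rw [htw, map_smul, ← muU_mulVec]
    exact hC.smul c hc _ (hC.inv _ (hT t ht) _ hδ)
  set k : Pt F E ⧸ torusPt e := QuotientGroup.mk (QuotientGroup.mk x₀ : Pt F E) with hk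
  have hk' : k ∈ Cc := (hcls _).mpr ((mk_mem_ptsOf e hC x₀).mpr (hex₀ ▸ hv₀))
  have hm : ∃ m, m ∉ Cc :=
    ⟨QuotientGroup.mk (QuotientGroup.mk y : Pt F E), fun h => hvC (by
      have := (mk_mem_ptsOf e hC y).mp ((hcls _).mp h)
      simpa [hy] using this)⟩
  obtain ⟨ψ, hψ⟩ := exists_ne (0 : Fin 3 → F)
  have key : ∀ (c : Pt F E ⧸ torusPt e) (X : AddSubgroup (Fin 3 → F)) (B : Finset (Finset (Pt F E))),
      X ≤ dualSet M v₀ → B.card < cls (torusPt e) (line e ψ) c →
      (∀ φ ∈ X, φ ≠ 0 → line e φ ∈ B) →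
      ∃ r, CountData.cnt (torusPt e) (line e ψ) Cc k c = 1 + Nat.card X * r := fun c X B hXd hBc hB =>
    key_count e hC (hex₀.symm ▸ hv₀) hcls hψ c X B (hex₀.symm ▸ hXd) hBc hB
  have hpsmul : ∀ φ : Fin 3 → F, p • φ = 0 := fun φ => by
    funext i
    simp
  refine CountData.false_of_classes (countData e hψ) (Fact.out : p.Prime) n.ne_zero hn hq4 hk' hm
    ?_ ?_
  · intro c hc
    obtain ⟨φ, hφ, hφ0⟩ := hX v₀ hv₀
    obtain ⟨r, hr⟩ := key c (AddSubgroup.zmultiples φ) {line e φ}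
      (AddSubgroup.zmultiples_le_of_mem hφ) (by rw [Finset.card_singleton]; omega) fun ψ' hψ' h0 => by
        obtain ⟨j, rfl⟩ := AddSubgroup.mem_zmultiples_iff.mp hψ'
        rw [Finset.mem_singleton]
        refine (line_eq_of_subset e hφ0 h0 fun γ hγ => ?_)
        obtain ⟨z, rfl⟩ := QuotientGroup.mk_surjective γ
        rw [mem_line, ← Int.cast_smul_eq_zsmul F, smul_dotProduct, smul_eq_mul] at hγ
        refine (mem_line e).mpr ((mul_eq_zero.mp hγ).resolve_left fun hj => h0 ?_)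
        rw [← Int.cast_smul_eq_zsmul F, hj, zero_smul]
    rw [hr, Nat.card_zmultiples, addOrderOf_eq_prime (hpsmul φ) hφ0, Nat.add_mul_mod_self_left,
      Nat.one_mod_eq_one.mpr (Fact.out : p.Prime).ne_one]
  · intro hp2 c hc
    subst hp2
    obtain ⟨φ₁, hφ₁, φ₂, hφ₂, h10, h12⟩ := h2 (CharTwo.two_eq_zero) v₀ hv₀
    have hd : ∀ a : Fin 3 → F, a + a = 0 := fun a => by rw [← two_nsmul]; exact hpsmul a
    let X : AddSubgroup (Fin 3 → F) :=
      { carrier := {0, φ₁, φ₂, φ₁ + φ₂}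
        zero_mem' := Or.inl rfl
        add_mem' := by
          have e1 : ∀ a b : Fin 3 → F, a + (a + b) = b := fun a b => by
            rw [← add_assoc, hd, zero_add]
          have e2 : ∀ a b : Fin 3 → F, a + b + a = b := fun a b => by rw [add_comm, e1]
          have e3 : ∀ a b : Fin 3 → F, b + (a + b) = a := fun a b => by rw [add_comm a b, e1]
          have e4 : ∀ a b : Fin 3 → F, a + b + b = a := fun a b => by rw [add_assoc, hd, add_zero]
          intro a b ha hb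
          rcases ha with h | h | h | h <;> rcases hb with h' | h' | h' | h' <;> rw [h, h'] <;>
            simp [hd, e1, e2, e3, e4, add_comm φ₂ φ₁]
        neg_mem' := by
          intro a ha
          rw [show -a = a from neg_eq_of_add_eq_zero_left (hd a)]
          exact ha }
    have hXcard : Nat.card X = 4 := by
      have h2' : φ₂ ≠ 0 := TwoAx.ne_zero_right h12
      have h12' : φ₁ ≠ φ₂ := fun h => h12 1 (by rw [one_smul, h])
      have h3 : φ₁ + φ₂ ≠ 0 := fun h => h12' (by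
        rw [eq_neg_of_add_eq_zero_left h]; exact neg_eq_of_add_eq_zero_left (hd φ₂))
      show Nat.card ({0, φ₁, φ₂, φ₁ + φ₂} : Set (Fin 3 → F)) = 4
      rw [Nat.card_coe_set_eq, Set.ncard_insert_of_notMem, Set.ncard_insert_of_notMem,
        Set.ncard_insert_of_notMem, Set.ncard_singleton] <;>
        simp [h10.symm, h2'.symm, h3.symm, h12', Ne.symm h12', h10, h2']
    have hXd : X ≤ dualSet M v₀ := by
      rintro a (rfl | rfl | rfl | rfl)
      · exact zero_mem _
      · exact hφ₁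
      · exact hφ₂
      · exact add_mem hφ₁ hφ₂
    obtain ⟨r, hr⟩ := key c X {line e φ₁, line e φ₂, line e (φ₁ + φ₂)} hXd
      (lt_of_le_of_lt Finset.card_le_three (by omega)) fun φ hφ h0 => by
        rcases hφ with rfl | rfl | rfl | rfl
        · exact absurd rfl h0
        all_goals simp
    rw [hr, hXcard, Nat.add_mul_mod_self_left]

end Cfsg.Agent.SL3Geo70
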