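import Cfsg.Agent.SL3Geo70.Orbit
import Cfsg.Agent.SL3Geo32.Basic

/-!
A group containing a Singer torus and a transvection contains the special linear group, `q ≠ 4`
(helper70).
-/

set_option autoImplicit false
set_option linter.unusedSectionVars false
set_option linter.style.haveILetI false

namespace Cfsg.Agent.SL3Geo70

open Matrix Cfsg.Agent.MaxSub

variable {F E : Type*} [Field F] [Fintype F] [Field E] [Algebra F E]
variable {M : Subgroup (GL (Fin 3) F)}

theorem exists_pair_coeff {φ a b : Fin 3 → F} (hφ : φ ≠ 0) (ha : a ≠ 0) (hab : ∀ c : F, b ≠ c • a)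
    (ha' : φ ⬝ᵥ a = 0) (hb' : φ ⬝ᵥ b = 0) {x : Fin 3 → F} (hx : φ ⬝ᵥ x = 0) :
    ∃ s t : F, x = s • a + t • b := by
  classical
  let f : (Fin 3 → F) →ₗ[F] F :=
    { toFun := fun y => φ ⬝ᵥ y
      map_add' := dotProduct_add φ
      map_smul' := fun c y => dotProduct_smul c φ y }
  obtain ⟨z, hz⟩ := exists_dotProduct_ne_zero hφ
  have hsurj : LinearMap.range f = ⊤ := LinearMap.range_eq_top.mpr fun c =>
    ⟨(c / (φ ⬝ᵥ z)) • z, by
      show φ ⬝ᵥ _ = c
      rw [dotProduct_smul, smul_eq_mul, div_mul_cancel₀ c hz]⟩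
  have hk : Module.finrank F (LinearMap.ker f) = 2 := by
    have h := f.finrank_range_add_finrank_ker
    rw [hsurj, finrank_top, Module.finrank_self, Module.finrank_fin_fun] at h
    omega
  have hli : LinearIndependent F ![a, b] := by
    rw [LinearIndependent.pair_iff' ha]
    exact fun r hr => hab r hr.symm
  have hspan : Submodule.span F ({a, b} : Set (Fin 3 → F)) = LinearMap.ker f := by
    refine Submodule.eq_of_le_of_finrank_eq ?_ ?_
    · rw [Submodule.span_le]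
      rintro _ (rfl | rfl) <;> [exact ha'; exact hb']
    · rw [hk, ← Matrix.range_cons_cons_empty a b ![], finrank_span_eq_card hli, Fintype.card_fin]
  obtain ⟨s, t, h⟩ := Submodule.mem_span_pair.mp (hspan.symm ▸ (show x ∈ LinearMap.ker f from hx))
  exact ⟨s, t, h.symm⟩

theorem smul_dual {c : F} (hc : c ≠ 0) {v φ : Fin 3 → F} (h : φ ∈ dualSet M v) :
    c⁻¹ • φ ∈ dualSet M (c • v) := by
  have h0 : (c⁻¹ • φ) ⬝ᵥ v = 0 := by rw [smul_dotProduct, h.1, smul_zero]
  refine ⟨by rw [dotProduct_smul, h0, smul_zero], ?_⟩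
  rw [tv_smul_comm _ h0, smul_smul, mul_inv_cancel₀ hc, one_smul]
  exact h.2

theorem vecMul_gl_injective (g : GL (Fin 3) F) {φ ψ : Fin 3 → F}
    (h : φ ᵥ* (g : Matrix (Fin 3) (Fin 3) F) = ψ ᵥ* (g : Matrix (Fin 3) (Fin 3) F)) : φ = ψ := by
  have := congrArg (· ᵥ* ((g⁻¹ : GL (Fin 3) F) : Matrix (Fin 3) (Fin 3) F)) h
  simpa only [vecMul_vecMul, Units.mul_inv, vecMul_one] using this

/-- The centres. -/
def centres (M : Subgroup (GL (Fin 3) F)) : Set (Fin 3 → F) :=
  {v | v ≠ 0 ∧ ∃ φ ∈ dualSet M v, φ ≠ 0}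

/-- The centres with two axes. -/
def twoCentres (M : Subgroup (GL (Fin 3) F)) : Set (Fin 3 → F) := {v | v ≠ 0 ∧ TwoAx M v}

theorem closed_centres : Closed M (centres M) where
  ne_zero _ h := h.1
  smul c hc v := fun ⟨h0, φ, hφ, hφ0⟩ =>
    ⟨smul_ne_zero hc h0, c⁻¹ • φ, smul_dual hc hφ, smul_ne_zero (inv_ne_zero hc) hφ0⟩
  inv g hg v := fun ⟨h0, φ, hφ, hφ0⟩ =>
    ⟨mulVec_ne_zero g h0, _, conj_mem_dualSet hg hφ, fun h =>
      hφ0 (vecMul_gl_injective g⁻¹ (h.trans (zero_vecMul _).symm))⟩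

theorem closed_twoCentres : Closed M (twoCentres M) where
  ne_zero _ h := h.1
  smul c hc v := fun ⟨h0, φ, hφ, ψ, hψ, hφ0, hne⟩ =>
    ⟨smul_ne_zero hc h0, _, smul_dual hc hφ, _, smul_dual hc hψ, smul_ne_zero (inv_ne_zero hc) hφ0,
      fun d h => hne d (smul_right_injective _ (inv_ne_zero hc) (h.trans (smul_comm d c⁻¹ φ)))⟩
  inv g hg v := fun ⟨h0, φ, hφ, ψ, hψ, hφ0, hne⟩ =>
    ⟨mulVec_ne_zero g h0, _, conj_mem_dualSet hg hφ, _, conj_mem_dualSet hg hψ, fun h =>
      hφ0 (vecMul_gl_injective g⁻¹ (h.trans (zero_vecMul _).symm)),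
      fun d h => hne d (vecMul_gl_injective g⁻¹ (h.trans (smul_vecMul d φ _).symm))⟩

/-- A centre on the axis of another transvection has this axis or two axes. -/
theorem twoAx_or_smul {v b φ ψ : Fin 3 → F} (hv : v ≠ 0) (hφ : φ ∈ dualSet M v) (hφ0 : φ ≠ 0)
    (hb : ∀ c : F, b ≠ c • v) (hbφ : φ ⬝ᵥ b = 0) (hψ : ψ ∈ dualSet M b) :
    TwoAx M b ∨ ∃ c : F, ψ = c • φ := by
  by_cases hψv : ψ ⬝ᵥ v = 0
  · refine Or.inr (eq_smul_of_ker hφ0 fun x hx => ?_)
    obtain ⟨s, t, rfl⟩ := exists_pair_coeff hφ0 hv hb hφ.1 hbφ hx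
    rw [dotProduct_add, dotProduct_smul, dotProduct_smul, hψv, hψ.1, smul_zero, smul_zero, add_zero]
  · refine Or.inl ⟨_, comm_mem_dualSet hψ hφ hbφ, ψ, hψ, smul_ne_zero hψv hφ0, fun c hc => hψv ?_⟩
    conv_lhs => rw [hc]
    rw [smul_dotProduct, smul_dotProduct, hφ.1, smul_zero, smul_zero]

variable (e : E ≃ₗ[F] (Fin 3 → F)) [Fintype (Pt F E)]

open Classical in
/-- Some centre has two axes. -/
theorem twoCentres_nonempty (hq4 : Fintype.card F ≠ 4) (hT : ∀ t ∈ torus e, muU e t ∈ M)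
    (hne : (centres M).Nonempty) : (twoCentres M).Nonempty := by
  obtain ⟨v, hv, φ, hφ, hφ0⟩ := hne
  by_cases h2 : (2 : F) = 0
  · set x₀ : Eˣ := Units.mk0 (e.symm v) (by simpa using hv) with hx₀
    have hex₀ : e (x₀ : E) = v := e.apply_symm_apply v
    have hP : (QuotientGroup.mk x₀ : Pt F E) ∈ line e φ := by rw [mem_line, hex₀]; exact hφ.1
    have hq7 : Fintype.card F ≠ 7 := fun h7 => by
      have h := FiniteField.even_card_of_char_two (F := F)
        (by
          haveI : CharP F 2 := (CharP.charP_iff_prime_eq_zero Nat.prime_two).mpr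
            (by exact_mod_cast h2)
          exact ringChar.eq F 2)
      rw [h7] at h
      norm_num at h
    have hcls := (countData e hφ0).two_le_cls Fintype.one_lt_card hq4 hq7
      (QuotientGroup.mk (QuotientGroup.mk x₀ : Pt F E))
    rw [cls] at hcls
    obtain ⟨γ, hγ, hne⟩ := Finset.exists_mem_ne hcls (QuotientGroup.mk x₀ : Pt F E)
    obtain ⟨z, rfl⟩ := QuotientGroup.mk_surjective γ
    rw [Finset.mem_filter] at hγ
    obtain ⟨t, ht, c, hc, hz⟩ := (cls_eq_iff e).mp hγ.2.symm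
    have hzφ := (mem_line e).mp hγ.1
    rw [hz, map_smul, dotProduct_smul, smul_eq_mul] at hzφ
    have hbφ := (mul_eq_zero.mp hzφ).resolve_left hc
    have hbv : ∀ d : F, e ((t : E) * x₀) ≠ d • v := fun d hd => by
      rw [← hex₀, ← map_smul] at hd
      have hd' := e.injective hd
      refine hne (pt_eq_iff.mpr ⟨c * d, fun h0 => z.ne_zero ?_, ?_⟩).symm
      · rw [hz, hd', smul_smul, h0, zero_smul]
      · rw [hz, hd', smul_smul]
    have hb0 : e ((t : E) * x₀) ≠ 0 := fun h => hbv 0 (by rw [h, zero_smul])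
    have hψ : φ ᵥ* mu e ((t⁻¹ : Eˣ) : E) ∈ dualSet M (e ((t : E) * x₀)) := by
      have h := conj_mem_dualSet (hT t ht) hφ
      rwa [← map_inv, ← hex₀, muU_mulVec, muU_coe] at h
    rcases twoAx_or_smul hv hφ hφ0 hbv hbφ hψ with h | ⟨d, hd⟩
    · exact ⟨_, hb0, h⟩
    · exfalso
      have hd0 : d ≠ 0 := fun h0 => hφ0 (by
        have h1 : φ ᵥ* (muU e t⁻¹ : Matrix (Fin 3) (Fin 3) F) =
            0 ᵥ* (muU e t⁻¹ : Matrix (Fin 3) (Fin 3) F) := by
          rw [zero_vecMul, muU_coe, hd, h0, zero_smul]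
        exact vecMul_gl_injective _ h1)
      have hst : ∀ δ ∈ line e φ, (QuotientGroup.mk t⁻¹ : Pt F E) * δ ∈ line e φ := fun δ hδ => by
        rw [← mem_line_translate]
        obtain ⟨w, rfl⟩ := QuotientGroup.mk_surjective δ
        rw [mem_line] at hδ ⊢
        rw [hd, smul_dotProduct, hδ, smul_zero]
      obtain ⟨d₁, hd₁, d₂, hd₂, hd12⟩ := Finset.one_lt_card.mp
        (show 1 < (line e φ).card by
          rw [card_line e hφ0]; have := Fintype.one_lt_card (α := F); omega)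
      refine hd12 (mul_left_cancel (line_diff e hφ0 _ (hst d₁ hd₁) d₁ hd₁ _ (hst d₂ hd₂) d₂ hd₂
        (by rw [mul_inv_cancel_right, mul_inv_cancel_right]) fun h => hne ?_))
      have h1 : (QuotientGroup.mk t : Pt F E) = 1 := by
        rw [← inv_eq_one, ← QuotientGroup.mk_inv]
        exact mul_eq_right.mp h
      refine (pt_eq_iff.mpr ⟨c⁻¹, inv_ne_zero hc, ?_⟩).trans ?_ (b := (QuotientGroup.mk (t * x₀) : Pt F E))
      · rw [Units.val_mul, hz, smul_smul, inv_mul_cancel₀ hc, one_smul]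
      · rw [QuotientGroup.mk_mul, h1, one_mul]
  · by_contra hcon
    have hall := all_points e hq4 hT closed_centres ⟨v, hv, φ, hφ, hφ0⟩ (fun w hw => hw.2)
      (fun h => absurd h h2)
    have hax : ∀ {w : Fin 3 → F} {χ : Fin 3 → F}, w ≠ 0 → χ ∈ dualSet M w → χ ≠ 0 →
        ∀ b : Fin 3 → F, b ≠ 0 → χ ⬝ᵥ b = 0 → ∃ d : F, d • χ ∈ dualSet M b ∧ d ≠ 0 := by
      intro w χ hw hχ hχ0 b hb hbχ
      by_cases hdep : ∃ d : F, b = d • w
      · obtain ⟨d, rfl⟩ := hdep
        have hd : d ≠ 0 := fun h => hb (by rw [h, zero_smul])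
        exact ⟨d⁻¹, smul_dual hd hχ, inv_ne_zero hd⟩
      · push Not at hdep
        obtain ⟨-, ψ, hψ, hψ0⟩ := hall b hb
        rcases twoAx_or_smul hw hχ hχ0 hdep hbχ hψ with h | ⟨d, rfl⟩
        · exact absurd ⟨b, hb, h⟩ hcon
        · exact ⟨d, hψ, fun h0 => hψ0 (by rw [h0, zero_smul])⟩
    obtain ⟨u, hu⟩ := exists_dotProduct_ne_zero hφ0
    obtain ⟨hu0, χ, hχ, hχ0⟩ := hall u fun h => hu (by rw [h, dotProduct_zero])
    have hφχ : ∀ d : F, χ ≠ d • φ := fun d hd => by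
      have h1 := hχ.1
      rw [hd, smul_dotProduct, smul_eq_mul] at h1
      exact hχ0 (by rw [hd, (mul_eq_zero.mp h1).resolve_right hu, zero_smul])
    have hw0 : crossProduct φ χ ≠ 0 := by
      rw [crossProduct_ne_zero_iff_linearIndependent, LinearIndependent.pair_iff' hφ0]
      exact fun d hd => hφχ d hd.symm
    obtain ⟨a, ha, ha0⟩ := hax hv hφ hφ0 _ hw0 (dot_self_cross φ χ)
    obtain ⟨b, hb, hb0⟩ := hax hu0 hχ hχ0 _ hw0 (dot_cross_self φ χ)
    refine hcon ⟨_, hw0, _, ha, _, hb, smul_ne_zero ha0 hφ0, fun d hd => hφχ (b⁻¹ * (d * a)) ?_⟩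
    rw [smul_smul] at hd
    rw [← smul_smul, ← hd, smul_smul, inv_mul_cancel₀ hb0, one_smul]

/-- Every non-zero vector is a centre with two axes. -/
theorem all_twoAx (hq4 : Fintype.card F ≠ 4) (hT : ∀ t ∈ torus e, muU e t ∈ M)
    (hne : (centres M).Nonempty) (v : Fin 3 → F) (hv : v ≠ 0) : TwoAx M v :=
  (all_points e hq4 hT closed_twoCentres (twoCentres_nonempty e hq4 hT hne)
    (fun _ hw => let ⟨φ, hφ, _, _, hφ0, _⟩ := hw.2; ⟨φ, hφ, hφ0⟩) (fun _ _ hw => hw.2) v hv).2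

omit e

/-- The coefficients of an axis at a centre. -/
def coeffs (M : Subgroup (GL (Fin 3) F)) (φ b : Fin 3 → F) : AddSubgroup F :=
  (dualSet M b).comap (AddMonoidHom.mk' (fun r : F => r • φ) fun r s => add_smul r s φ)

theorem mem_coeffs {φ b : Fin 3 → F} {r : F} : r ∈ coeffs M φ b ↔ r • φ ∈ dualSet M b := Iff.rfl

theorem smul_mem_centreSet_iff {φ b : Fin 3 → F} (h : φ ⬝ᵥ b = 0) {r : F} :
    r • b ∈ centreSet M φ ↔ r ∈ coeffs M φ b := by
  refine ⟨fun hr => ?_, fun hr => smul_mem_centreSet r hr h⟩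
  rw [mem_coeffs]
  refine ⟨by rw [smul_dotProduct, h, smul_zero], ?_⟩
  rw [← tv_smul_comm r h]
  exact hr.2

theorem arith_pow {p n j k : ℕ} (hp : p.Prime) (hj : 1 ≤ j) (hjn : j < n)
    (h : p ^ k = p ^ j + p ^ n * (p ^ j - 1)) : False := by
  have hpj : 1 < p ^ j := Nat.one_lt_pow (by omega) hp.one_lt
  have h1 : p ^ k = p ^ j * (1 + p * (p ^ (n - j - 1) * (p ^ j - 1))) := by
    rw [h, show n = j + (1 + (n - j - 1)) by omega, pow_add, pow_add, pow_one,
      show j + (1 + (n - j - 1)) - j - 1 = n - j - 1 by omega]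
    ring
  set m := p ^ (n - j - 1) * (p ^ j - 1) with hm
  have hm0 : 0 < m := Nat.mul_pos (pow_pos hp.pos _) (by omega)
  have hdvd : 1 + p * m ∣ p ^ k := Dvd.intro_left _ h1.symm
  obtain ⟨i, -, hi⟩ := (Nat.dvd_prime_pow hp).mp hdvd
  rcases Nat.eq_zero_or_pos i with rfl | hi0
  · rw [pow_zero] at hi
    have := hp.two_le
    nlinarith
  · have : p ∣ 1 + p * m := hi ▸ dvd_pow_self p (by omega)
    exact hp.not_dvd_one ((Nat.dvd_add_left (dvd_mul_right p m)).mp this)

open Classical in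
/-- With two axes everywhere, every axis comes with all its multiples. -/
theorem smul_mem_of_twoAx (hall : ∀ v : Fin 3 → F, v ≠ 0 → TwoAx M v) {v φ : Fin 3 → F}
    (hv : v ≠ 0) (hφ : φ ∈ dualSet M v) (hφ0 : φ ≠ 0) (r : F) : r • φ ∈ dualSet M v := by
  obtain ⟨p, hp⟩ := CharP.exists F
  haveI := hp
  have hpp : p.Prime := CharP.char_is_prime F p
  haveI : Fact p.Prime := ⟨hpp⟩
  obtain ⟨n, -, hn⟩ := FiniteField.card F p
  -- a second vector on the axis
  obtain ⟨χ, hχ⟩ := exists_dotProduct_ne_zero hv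
  set w := crossProduct φ χ with hw
  have hχv : χ ⬝ᵥ v ≠ 0 := by rw [dotProduct_comm]; exact hχ
  have hw0 : w ≠ 0 := by
    rw [hw, crossProduct_ne_zero_iff_linearIndependent, LinearIndependent.pair_iff' hφ0]
    intro d hd
    exact hχv (by rw [← hd, smul_dotProduct, hφ.1, smul_zero])
  have hwφ : φ ⬝ᵥ w = 0 := dot_self_cross φ χ
  have hwv : ∀ d : F, w ≠ d • v := fun d hd => by
    have h := dot_cross_self φ χ
    rw [← hw, hd, dotProduct_smul, smul_eq_mul] at h
    exact hw0 (by rw [hd, (mul_eq_zero.mp h).resolve_right hχv, zero_smul])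
  -- the coefficient groups have equal sizes
  have hle : ∀ a b : Fin 3 → F, φ ⬝ᵥ a = 0 → φ ⬝ᵥ b = 0 → b ≠ 0 → (∀ d : F, a ≠ d • b) →
      Nat.card (coeffs M φ a) ≤ Nat.card (coeffs M φ b) := by
    intro a b haφ hbφ hb hab
    obtain ⟨ψ, hψ, hψa⟩ : ∃ ψ ∈ dualSet M b, ψ ⬝ᵥ a ≠ 0 := by
      obtain ⟨ψ₁, h1, ψ₂, h2, h10, h12⟩ := hall b hb
      by_contra hcon
      push Not at hcon
      have hk : ∀ ψ ∈ dualSet M b, ∃ c : F, ψ = c • φ := fun ψ hψ =>
        eq_smul_of_ker hφ0 fun x hx => by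
          obtain ⟨s, t, rfl⟩ := exists_pair_coeff hφ0 hb hab hbφ haφ hx
          rw [dotProduct_add, dotProduct_smul, dotProduct_smul, hψ.1, hcon ψ hψ, smul_zero,
            smul_zero, add_zero]
      obtain ⟨c₁, rfl⟩ := hk ψ₁ h1
      obtain ⟨c₂, rfl⟩ := hk ψ₂ h2
      have hc₁ : c₁ ≠ 0 := fun h => h10 (by rw [h, zero_smul])
      exact h12 (c₂ / c₁) (by rw [smul_smul, div_mul_cancel₀ _ hc₁])
    refine Nat.card_le_card_of_injective (fun r => ⟨(r : F) * (ψ ⬝ᵥ a), ?_⟩) ?_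
    · have h := comm_mem_dualSet hψ (mem_coeffs.mp r.2) (by rw [smul_dotProduct, hbφ, smul_zero])
      rw [smul_smul, mul_comm] at h
      exact h
    · exact fun r s h => Subtype.ext (mul_right_cancel₀ hψa (congrArg Subtype.val h))
  have hQ : ∀ s : F, Nat.card (coeffs M φ (w + s • v)) = Nat.card (coeffs M φ v) := by
    intro s
    have h0 : φ ⬝ᵥ (w + s • v) = 0 := by
      rw [dotProduct_add, dotProduct_smul, hwφ, hφ.1, smul_zero, add_zero]
    have h1 : ∀ d : F, w + s • v ≠ d • v := fun d hd => hwv (d - s) (by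
      rw [sub_smul, ← hd, add_sub_cancel_right])
    have h2 : w + s • v ≠ 0 := fun h => h1 0 (by rw [h, zero_smul])
    refine le_antisymm (hle _ _ h0 hφ.1 hv h1) (hle _ _ hφ.1 h0 h2 fun d hd => ?_)
    by_cases hd0 : d = 0
    · exact hv (by rw [hd, hd0, zero_smul])
    · exact h1 d⁻¹ (by rw [eq_inv_smul_iff₀ hd0]; exact hd.symm)
  -- the centres of one axis
  set Q := Nat.card (coeffs M φ v) with hQdef
  let g : coeffs M φ v ⊕ (Σ s : F, {r : coeffs M φ (w + s • v) // r ≠ 0}) → centreSet M φ :=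
    fun x => match x with
    | Sum.inl r => ⟨(r : F) • v, (smul_mem_centreSet_iff hφ.1).mpr r.2⟩
    | Sum.inr ⟨s, r⟩ => ⟨((r.1 : F)) • (w + s • v), (smul_mem_centreSet_iff
        (by rw [dotProduct_add, dotProduct_smul, hwφ, hφ.1, smul_zero, add_zero])).mpr r.1.2⟩
  have hco : ∀ a b : F, a • w + b • v = 0 → a = 0 ∧ b = 0 := by
    intro a b h
    have ha : a = 0 := by
      by_contra ha
      refine hwv (-(b / a)) ?_
      rw [← inv_smul_smul₀ ha w, eq_neg_of_add_eq_zero_left h, smul_neg, smul_smul, neg_smul,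
        div_eq_inv_mul]
    rw [ha, zero_smul, zero_add] at h
    exact ⟨ha, (smul_eq_zero.mp h).resolve_right hv⟩
  have hg : Function.Bijective g := by
    constructor
    · rintro (r | ⟨s, r, hr⟩) (r' | ⟨s', r', hr'⟩) h <;>
        replace h := congrArg Subtype.val h
      · exact congrArg Sum.inl (Subtype.ext (smul_left_injective _ hv h))
      · have h' : (r' : F) • w + ((r' : F) * s' - r) • v = 0 := by
          change (r : F) • v = _ at h
          rw [sub_smul, h]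
          simp [g]
          module
        exact absurd (Subtype.ext (hco _ _ h').1) hr'
      · have h' : (r : F) • w + ((r : F) * s - r') • v = 0 := by
          change _ = (r' : F) • v at h
          rw [sub_smul, ← h]
          simp [g]
          module
        exact absurd (Subtype.ext (hco _ _ h').1) hr
      · change (r : F) • (w + s • v) = (r' : F) • (w + s' • v) at h
        have h' : ((r : F) - r') • w + ((r : F) * s - r' * s') • v = 0 := by
          linear_combination (norm := module) h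
        obtain ⟨e1, e2⟩ := hco _ _ h'
        rw [sub_eq_zero] at e1 e2
        rw [e1] at e2
        have hr0 : (r' : F) ≠ 0 := fun h0 => hr' (Subtype.ext h0)
        obtain rfl := mul_left_cancel₀ hr0 e2
        exact congrArg Sum.inr (Sigma.ext rfl (heq_of_eq (Subtype.ext (Subtype.ext e1))))
    · rintro ⟨x, hx⟩
      obtain ⟨a, b, rfl⟩ := exists_pair_coeff hφ0 hv hwv hφ.1 hwφ hx.1
      by_cases hb : b = 0
      · have h : a • v ∈ centreSet M φ := by simpa [hb] using hx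
        exact ⟨Sum.inl ⟨a, (smul_mem_centreSet_iff hφ.1).mp h⟩, Subtype.ext (by simp [g, hb])⟩
      · have heq : a • v + b • w = b • (w + (b⁻¹ * a) • v) := by
          rw [smul_add, smul_smul, mul_inv_cancel_left₀ hb, add_comm]
        have h := heq ▸ hx
        refine ⟨Sum.inr ⟨b⁻¹ * a, ⟨b, (smul_mem_centreSet_iff ?_).mp h⟩, fun h0 => hb
          (congrArg Subtype.val h0)⟩, Subtype.ext heq.symm⟩
        rw [dotProduct_add, dotProduct_smul, hwφ, hφ.1, smul_zero, add_zero]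
  have hZ : Nat.card (centreSet M φ) = Q + Fintype.card F * (Q - 1) := by
    rw [← Nat.card_congr (Equiv.ofBijective g hg), Nat.card_sum, Nat.card_sigma, hQdef]
    congr 1
    rw [Finset.sum_eq_card_nsmul (b := Q - 1) fun s _ => ?_, Finset.card_univ, smul_eq_mul, hQdef]
    rw [Nat.card_eq_fintype_card, Fintype.card_subtype_compl, Fintype.card_subtype_eq, ← hQ s,
      Nat.card_eq_fintype_card]
  have hv1 : (1 : F) ∈ coeffs M φ v := by rw [mem_coeffs, one_smul]; exact hφ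
  obtain ⟨j, hjn, hj⟩ : ∃ j ≤ (n : ℕ), Q = p ^ j := by
    refine (Nat.dvd_prime_pow hpp).mp ?_
    rw [← hn, ← Nat.card_eq_fintype_card, hQdef]
    exact AddSubgroup.card_addSubgroup_dvd_card _
  obtain ⟨k, -, hk⟩ : ∃ k ≤ (n : ℕ) * 3, Nat.card (centreSet M φ) = p ^ k := by
    refine (Nat.dvd_prime_pow hpp).mp ?_
    rw [pow_mul, ← hn]
    convert AddSubgroup.card_addSubgroup_dvd_card (centreSet M φ) using 1
    rw [Nat.card_eq_fintype_card, Fintype.card_fun, Fintype.card_fin]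
  rcases hjn.lt_or_eq with hlt | rfl
  · rcases Nat.eq_zero_or_pos j with rfl | hj0
    · rw [pow_zero, hQdef, Nat.card_eq_one_iff_unique] at hj
      exact absurd (congrArg Subtype.val (hj.1.elim (⟨1, hv1⟩ : coeffs M φ v) 0)) one_ne_zero
    · rw [hZ, hn, hj] at hk
      exact (arith_pow hpp hj0 hlt hk.symm).elim
  · have htop : coeffs M φ v = ⊤ := AddSubgroup.eq_top_of_card_eq _ (by
      rw [← hQdef, hj, Nat.card_eq_fintype_card, hn])
    exact mem_coeffs.mp (htop ▸ AddSubgroup.mem_top r)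

/-- A transvection and the torus generate at least the special linear group. -/
theorem specialLinear_le_of_transvection (e : E ≃ₗ[F] (Fin 3 → F)) [Fintype (Pt F E)]
    (hq4 : Fintype.card F ≠ 4) (hT : ∀ t ∈ torus e, muU e t ∈ M) {v φ : Fin 3 → F} (hv : v ≠ 0)
    (hφ : φ ∈ dualSet M v) (hφ0 : φ ≠ 0) : Geo.specialLinear (Fin 3) F ≤ M := by
  have hall := all_twoAx e hq4 hT ⟨v, hv, φ, hφ, hφ0⟩
  refine SL3Geo32.specialLinear_le_of_fullSpace (eq_top_iff.mpr fun w _ => ?_)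
  intro χ hχ
  by_cases hw : w = 0
  · simp [hw, one_mem]
  obtain ⟨φ₁, h1, φ₂, h2, h10, h12⟩ := hall w hw
  obtain ⟨s, t, rfl⟩ := exists_pair_coeff hw h10 h12 (dotProduct_comm w φ₁ ▸ h1.1)
    (dotProduct_comm w φ₂ ▸ h2.1) (x := χ) (by rw [dotProduct_comm]; exact hχ)
  exact (add_mem (smul_mem_of_twoAx hall hw h1 h10 s)
    (smul_mem_of_twoAx hall hw h2 (TwoAx.ne_zero_right h12) t)).2

end Cfsg.Agent.SL3Geo70
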